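/-
The symmetric group of degree 3 acting without fixed points, internal form: two elements `s`, `t`.
-/
import Cfsg.Agent.Coprime.Generation
import Cfsg.Agent.Coprime.InvariantHall
import Cfsg.Agent.OddLocal.FixedPointFreeGroup

set_option linter.style.haveILetI false
set_option linter.unusedSectionVars false

namespace Cfsg.Lib.SThree

open Subgroup Cfsg.Lib.Coprime
open scoped commutatorElement

universe u

variable {X : Type u} [Group X]

/-- Two elements satisfying the relations of the symmetric group of degree 3. -/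
structure Pair (X : Type u) [Group X] where
  s : X
  t : X
  hs : s ^ 3 = 1
  ht : t * t = 1
  hts : t * s * t = s⁻¹

namespace Pair

variable (P : Pair X)

theorem t_inv : P.t⁻¹ = P.t := inv_eq_of_mul_eq_one_right P.ht

theorem conj_s : P.t * P.s * P.t⁻¹ = P.s⁻¹ := by rw [P.t_inv, P.hts]

theorem ss : P.s * P.s = P.s⁻¹ := by
  rw [eq_inv_iff_mul_eq_one, ← P.hs]; simp [pow_succ]

theorem t_s : P.t * P.s = P.s⁻¹ * P.t := by
  rw [← P.hts, mul_assoc, P.ht, mul_one]

/-- The pair with the involution `t s`. -/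
def next : Pair X where
  s := P.s
  t := P.t * P.s
  hs := P.hs
  ht := by rw [← mul_assoc, P.hts, inv_mul_cancel]
  hts := by
    have h : P.t * P.s⁻¹ * P.t = P.s := by
      rw [← inv_inj, mul_inv_rev, mul_inv_rev, inv_inv, P.t_inv, ← mul_assoc, P.hts]
    calc P.t * P.s * P.s * (P.t * P.s) = P.t * (P.s * P.s) * P.t * P.s := by group
      _ = P.s * P.s := by rw [P.ss, h, P.ss]
      _ = P.s⁻¹ := P.ss

/-- The group generated by the pair. -/
def grp : Subgroup X := zpowers P.s ⊔ zpowers P.t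

theorem s_mem : P.s ∈ P.grp := mem_sup_left (mem_zpowers _)

theorem t_mem : P.t ∈ P.grp := mem_sup_right (mem_zpowers _)

theorem grp_le_iff {H : Subgroup X} : P.grp ≤ H ↔ P.s ∈ H ∧ P.t ∈ H := by
  rw [grp, sup_le_iff, zpowers_le, zpowers_le]

theorem next_grp : P.next.grp = P.grp := by
  refine le_antisymm (P.next.grp_le_iff.2 ⟨P.s_mem, mul_mem P.t_mem P.s_mem⟩)
    (P.grp_le_iff.2 ⟨P.next.s_mem, ?_⟩)
  have := mul_mem P.next.t_mem (inv_mem P.next.s_mem)
  simpa [next] using this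

theorem t_normalizes : P.t ∈ normalizer (zpowers P.s : Set X) := by
  have h : ∀ x ∈ zpowers P.s, P.t * x * P.t⁻¹ ∈ zpowers P.s := by
    rintro x ⟨k, rfl⟩
    refine ⟨-k, ?_⟩
    show P.s ^ (-k) = P.t * P.s ^ k * P.t⁻¹
    rw [← conj_zpow, P.conj_s, inv_zpow, zpow_neg]
  refine mem_normalizer_of_conj_mem h fun x hx => ?_
  have := h x hx
  rwa [P.t_inv] at this ⊢

theorem card_grp [Finite X] : Nat.card P.grp ∣ 6 := by
  have h := card_sup_mul_card_inf (zpowers_le.2 P.t_normalizes)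
  refine (Dvd.intro _ h).trans ?_
  rw [Nat.card_zpowers, Nat.card_zpowers]
  exact mul_dvd_mul (orderOf_dvd_of_pow_eq_one P.hs) (orderOf_dvd_of_pow_eq_one (by rw [pow_two, P.ht])) |>.trans
    (by norm_num)

/-- `H` is normalised by `s` and `t`. -/
def Stable (H : Subgroup X) : Prop := P.grp ≤ normalizer (H : Set X)

/-- Only the identity of `H` commutes with `s` and `t`. -/
def Free (H : Subgroup X) : Prop := H ⊓ centralizer (P.grp : Set X) = ⊥

variable {P}

theorem Free.eq_one {H : Subgroup X} (h : P.Free H) {x : X} (hx : x ∈ H)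
    (hxs : P.s * x = x * P.s) (hxt : P.t * x = x * P.t) : x = 1 := by
  have hle : P.grp ≤ centralizer ({x} : Set X) :=
    P.grp_le_iff.2 ⟨mem_centralizer_singleton_iff.2 hxs, mem_centralizer_singleton_iff.2 hxt⟩
  have : x ∈ H ⊓ centralizer (P.grp : Set X) := Subgroup.mem_inf.2
    ⟨hx, mem_centralizer_iff.2 fun a ha => (mem_centralizer_singleton_iff.1 (hle ha))⟩
  rw [h] at this
  exact mem_bot.1 this

theorem Free.mono {H L : Subgroup X} (h : P.Free H) (hle : L ≤ H) : P.Free L :=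
  le_bot_iff.1 (h ▸ inf_le_inf_right _ hle)

theorem Free.next {H : Subgroup X} (h : P.Free H) : P.next.Free H := by
  unfold Free at h ⊢; rwa [P.next_grp]

theorem Stable.next {H : Subgroup X} (h : P.Stable H) : P.next.Stable H := by
  unfold Stable at h ⊢; rwa [P.next_grp]

theorem Stable.s {H : Subgroup X} (h : P.Stable H) : P.s ∈ normalizer (H : Set X) := h P.s_mem

theorem Stable.t {H : Subgroup X} (h : P.Stable H) : P.t ∈ normalizer (H : Set X) := h P.t_mem

theorem stable_iff {H : Subgroup X} :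
    P.Stable H ↔ P.s ∈ normalizer (H : Set X) ∧ P.t ∈ normalizer (H : Set X) := P.grp_le_iff

theorem conj_mem {H : Subgroup X} {g x : X} (hg : g ∈ normalizer (H : Set X)) (hx : x ∈ H) :
    g * x * g⁻¹ ∈ H :=
  (mem_normalizer_iff.1 hg x).1 hx

theorem mem_of_conj_mem {H : Subgroup X} {g x : X} (hg : g ∈ normalizer (H : Set X)) (hx : g * x * g⁻¹ ∈ H) :
    x ∈ H :=
  (mem_normalizer_iff.1 hg x).2 hx

theorem Stable.inf {H L : Subgroup X} (hH : P.Stable H) (hL : P.Stable L) : P.Stable (H ⊓ L) :=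
  le_normalizer_inf hH hL

theorem Stable.sup {H L : Subgroup X} (hH : P.Stable H) (hL : P.Stable L) : P.Stable (H ⊔ L) :=
  le_normalizer_sup hH hL

theorem normalizer_le_normalizer_centralizer (H : Subgroup X) :
    normalizer (H : Set X) ≤ normalizer (centralizer (H : Set X) : Set X) := by
  intro g hg
  have key : ∀ g ∈ normalizer (H : Set X), ∀ x ∈ centralizer (H : Set X), g * x * g⁻¹ ∈ centralizer (H : Set X) := by
    intro g hg x hx
    refine mem_centralizer_iff.2 fun h hh => ?_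
    have h1 : g⁻¹ * h * g ∈ H := by
      have := conj_mem (inv_mem hg) hh
      rwa [inv_inv] at this
    have h2 := mem_centralizer_iff.1 hx _ h1
    calc h * (g * x * g⁻¹) = g * ((g⁻¹ * h * g) * x) * g⁻¹ := by group
      _ = g * (x * (g⁻¹ * h * g)) * g⁻¹ := by rw [h2]
      _ = _ := by group
  exact mem_normalizer_of_conj_mem (key g hg) fun x hx => by
    have := key g⁻¹ (inv_mem hg) x hx
    rwa [inv_inv] at this

theorem Stable.centralizer {H : Subgroup X} (hH : P.Stable H) : P.Stable (Subgroup.centralizer (H : Set X)) :=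
  hH.trans (normalizer_le_normalizer_centralizer H)

theorem stable_centralizer_s : P.Stable (Subgroup.centralizer (zpowers P.s : Set X)) := by
  refine Stable.centralizer (stable_iff.2 ⟨le_normalizer (mem_zpowers _), P.t_normalizes⟩)

theorem mem_centralizer_s {x : X} :
    x ∈ Subgroup.centralizer (zpowers P.s : Set X) ↔ P.s * x = x * P.s := by
  rw [centralizer_zpowers, mem_centralizer_singleton_iff]
  exact eq_comm

theorem inf_centralizer_s {H : Subgroup X} :
    H ⊓ Subgroup.centralizer ({P.s} : Set X) = H ⊓ Subgroup.centralizer (zpowers P.s : Set X) := by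
  rw [centralizer_zpowers]

variable [Finite X]

theorem coprime_grp {H : Subgroup X} (hc : (Nat.card H).Coprime 6) : (Nat.card P.grp).Coprime (Nat.card H) :=
  (Nat.Coprime.coprime_dvd_right P.card_grp hc).symm

theorem coprime_s {H : Subgroup X} (hc : (Nat.card H).Coprime 6) :
    (Nat.card (zpowers P.s)).Coprime (Nat.card H) := by
  rw [Nat.card_zpowers]
  exact (Nat.Coprime.coprime_dvd_right ((orderOf_dvd_of_pow_eq_one P.hs).trans (by norm_num)) hc).symm

theorem coprime_mono {H L : Subgroup X} (h : L ≤ H) (hc : (Nat.card H).Coprime 6) : (Nat.card L).Coprime 6 :=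
  Nat.Coprime.coprime_dvd_left (card_dvd_of_le h) hc

theorem isSolvable_s : Group.IsSolvable (zpowers P.s) :=
  Group.isSolvable_of_comm fun a b => mul_comm' a b

theorem isSolvable_grp : Group.IsSolvable P.grp := by
  set N := (zpowers P.s).subgroupOf P.grp
  haveI hn : N.Normal := normal_subgroupOf_of_le_normalizer
    (P.grp_le_iff.2 ⟨le_normalizer (mem_zpowers _), P.t_normalizes⟩)
  haveI : Group.IsSolvable N := Group.isSolvable_of_comm fun a b => by
    obtain ⟨i, hi⟩ := mem_zpowers_iff.1 (mem_subgroupOf.1 a.2)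
    obtain ⟨j, hj⟩ := mem_zpowers_iff.1 (mem_subgroupOf.1 b.2)
    apply Subtype.ext
    apply Subtype.ext
    push_cast
    rw [← hi, ← hj, ← zpow_add, ← zpow_add, add_comm]
  let π := QuotientGroup.mk' N
  have hgen : ∀ q : P.grp ⧸ N, q ∈ zpowers (π ⟨P.t, P.t_mem⟩) := by
    intro q
    obtain ⟨g, rfl⟩ := QuotientGroup.mk'_surjective N q
    obtain ⟨a, ha, b, hb, hab⟩ := (mem_sup_of_le_normalizer (zpowers_le.2 P.t_normalizes)).1 g.2
    obtain ⟨k, rfl⟩ := hb
    refine ⟨k, ?_⟩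
    show π ⟨P.t, P.t_mem⟩ ^ k = π g
    rw [← map_zpow, QuotientGroup.mk'_eq_mk']
    refine ⟨(⟨P.t, P.t_mem⟩ ^ k)⁻¹ * g, ?_, by group⟩
    show ((⟨P.t, P.t_mem⟩ ^ k : P.grp) : X)⁻¹ * (g : X) ∈ zpowers P.s
    rw [← hab, Subgroup.coe_zpow, ← mul_assoc]
    have := conj_mem (inv_mem (zpow_mem P.t_normalizes k)) ha
    rwa [inv_inv] at this
  haveI : Group.IsSolvable (P.grp ⧸ N) := Group.isSolvable_of_comm fun a b => by
    obtain ⟨i, rfl⟩ := hgen a
    obtain ⟨j, rfl⟩ := hgen b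
    exact (Commute.refl _).zpow_zpow i j
  exact Group.isSolvable_of_ker_le_range N.subtype π (by rw [QuotientGroup.ker_mk', range_subtype])

/-- an element fixed by `s` is inverted by `t` -/
theorem inverted {H : Subgroup X} (hf : P.Free H) (hH : P.Stable H) (hc : (Nat.card H).Coprime 6) {x : X}
    (hx : x ∈ H) (hxs : P.s * x = x * P.s) : P.t * x * P.t⁻¹ = x⁻¹ := by
  set C := H ⊓ Subgroup.centralizer (zpowers P.s : Set X)
  have hC : P.t ∈ normalizer (C : Set X) := (hH.inf stable_centralizer_s).t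
  let f : C → C := fun y => ⟨(y : X)⁻¹ * (P.t * y * P.t⁻¹), mul_mem (inv_mem y.2) (conj_mem hC y.2)⟩
  have hinj : Function.Injective f := by
    intro a b hab
    have h0 : (a : X)⁻¹ * (P.t * a * P.t⁻¹) = (b : X)⁻¹ * (P.t * b * P.t⁻¹) := congrArg Subtype.val hab
    have h1 : P.t * ((b : X) * (a : X)⁻¹) = ((b : X) * (a : X)⁻¹) * P.t := by
      calc P.t * ((b : X) * (a : X)⁻¹) = (b * ((b : X)⁻¹ * (P.t * b * P.t⁻¹))) * P.t * (a : X)⁻¹ := by group
        _ = (b * ((a : X)⁻¹ * (P.t * a * P.t⁻¹))) * P.t * (a : X)⁻¹ := by rw [h0]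
        _ = _ := by group
    have hab' : (b : X) * (a : X)⁻¹ ∈ C := mul_mem b.2 (inv_mem a.2)
    exact Subtype.ext (mul_inv_eq_one.1 (hf.eq_one hab'.1 (mem_centralizer_s.1 hab'.2) h1)).symm
  obtain ⟨y, hy⟩ := (Finite.injective_iff_surjective.1 hinj) ⟨x, hx, mem_centralizer_s.2 hxs⟩
  have he : (y : X)⁻¹ * (P.t * y * P.t⁻¹) = x := congrArg Subtype.val hy
  rw [← he]
  simp only [mul_inv_rev, inv_inv, P.t_inv]
  calc P.t * ((y : X)⁻¹ * (P.t * y * P.t)) * P.t = P.t * (y : X)⁻¹ * P.t * y * (P.t * P.t) := by group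
    _ = _ := by rw [P.ht, mul_one]; group

/-- the fixed points of `s` commute -/
theorem comm_of_fixed {H : Subgroup X} (hf : P.Free H) (hH : P.Stable H) (hc : (Nat.card H).Coprime 6)
    {x y : X} (hx : x ∈ H) (hy : y ∈ H) (hxs : P.s * x = x * P.s) (hys : P.s * y = y * P.s) :
    x * y = y * x := by
  have hxy : P.s * (x * y) = x * y * P.s := by rw [← mul_assoc, hxs, mul_assoc, hys, mul_assoc]
  have h1 := inverted hf hH hc (mul_mem hx hy) hxy
  have h2 : P.t * (x * y) * P.t⁻¹ = (P.t * x * P.t⁻¹) * (P.t * y * P.t⁻¹) := by group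
  rw [h2, inverted hf hH hc hx hxs, inverted hf hH hc hy hys] at h1
  have := congrArg (·⁻¹) h1
  simp only [mul_inv_rev, inv_inv] at this
  exact this.symm

/-- a coset fixed by `s` and `t` is trivial -/
theorem mem_of_fixed_coset {H D : Subgroup X} (hf : P.Free H) (hc : (Nat.card H).Coprime 6)
    (hD : P.Stable D) (hDH : D ≤ H) {k : X} (hk : k ∈ H)
    (h1 : k⁻¹ * (P.s * k * P.s⁻¹) ∈ D) (h2 : k⁻¹ * (P.t * k * P.t⁻¹) ∈ D) : k ∈ D := by
  -- the elements stabilising the coset form a subgroup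
  let S : Subgroup X :=
    { carrier := {a | a ∈ normalizer (D : Set X) ∧ k⁻¹ * (a * k * a⁻¹) ∈ D}
      one_mem' := ⟨one_mem _, by simp⟩
      mul_mem' := by
        rintro a b ⟨ha, ha'⟩ ⟨hb, hb'⟩
        refine ⟨mul_mem ha hb, ?_⟩
        have e : k⁻¹ * (a * b * k * (a * b)⁻¹) = (k⁻¹ * (a * k * a⁻¹)) * (a * (k⁻¹ * (b * k * b⁻¹)) * a⁻¹) := by
          group
        rw [e]; exact mul_mem ha' (conj_mem ha hb')
      inv_mem' := by
        rintro a ⟨ha, ha'⟩
        refine ⟨inv_mem ha, ?_⟩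
        have e : k⁻¹ * (a⁻¹ * k * a⁻¹⁻¹) = a⁻¹ * (k⁻¹ * (a * k * a⁻¹))⁻¹ * a⁻¹⁻¹ := by group
        rw [e]; exact conj_mem (inv_mem ha) (inv_mem ha') }
  have hS : P.grp ≤ S := P.grp_le_iff.2 ⟨⟨hD.s, h1⟩, ⟨hD.t, h2⟩⟩
  obtain ⟨d, hd, hcd⟩ := exists_fixed_in_coset hD (coprime_of_le hDH (coprime_grp hc))
    (Or.inl P.isSolvable_grp) (k := k) fun a ha => by
      rw [show k⁻¹ * a * k * a⁻¹ = k⁻¹ * (a * k * a⁻¹) by group]; exact (hS ha).2
  have h3 : k * d ∈ H ⊓ Subgroup.centralizer (P.grp : Set X) := Subgroup.mem_inf.2 ⟨mul_mem hk (hDH hd), hcd⟩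
  rw [hf, mem_bot] at h3
  rw [eq_inv_of_mul_eq_one_left h3]
  exact inv_mem hd

/-- a coset fixed by `s` contains a fixed point -/
theorem exists_fixed_s {D : Subgroup X} (hc : (Nat.card D).Coprime 6) (hD : P.s ∈ normalizer (D : Set X))
    {k : X} (h1 : k⁻¹ * (P.s * k * P.s⁻¹) ∈ D) : ∃ d ∈ D, P.s * (k * d) = k * d * P.s := by
  have hle : ∀ a ∈ zpowers P.s, k⁻¹ * a * k * a⁻¹ ∈ D := by
    let S : Subgroup X :=
      { carrier := {a | a ∈ normalizer (D : Set X) ∧ k⁻¹ * (a * k * a⁻¹) ∈ D}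
        one_mem' := ⟨one_mem _, by simp⟩
        mul_mem' := by
          rintro a b ⟨ha, ha'⟩ ⟨hb, hb'⟩
          refine ⟨mul_mem ha hb, ?_⟩
          have e : k⁻¹ * (a * b * k * (a * b)⁻¹) = (k⁻¹ * (a * k * a⁻¹)) * (a * (k⁻¹ * (b * k * b⁻¹)) * a⁻¹) := by
            group
          rw [e]; exact mul_mem ha' (conj_mem ha hb')
        inv_mem' := by
          rintro a ⟨ha, ha'⟩
          refine ⟨inv_mem ha, ?_⟩
          have e : k⁻¹ * (a⁻¹ * k * a⁻¹⁻¹) = a⁻¹ * (k⁻¹ * (a * k * a⁻¹))⁻¹ * a⁻¹⁻¹ := by group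
          rw [e]; exact conj_mem (inv_mem ha) (inv_mem ha') }
    intro a ha
    have := ((zpowers_le (H := S)).2 ⟨hD, h1⟩ ha).2
    rwa [show k⁻¹ * a * k * a⁻¹ = k⁻¹ * (a * k * a⁻¹) by group]
  obtain ⟨d, hd, hcd⟩ := exists_fixed_in_coset (zpowers_le.2 hD) (coprime_s hc) (Or.inl isSolvable_s) hle
  exact ⟨d, hd, mem_centralizer_s.1 hcd⟩

/-- if `s` has no fixed point in the `p`-group `U` then `[Q, s]` centralises `U` -/
theorem commutator_le_centralizer {p q : ℕ} [Fact p.Prime] (hq : q.Prime) {Q U : Subgroup X}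
    (hQ : IsPGroup q Q) (hU : IsPGroup p U) (hq6 : q.Coprime 6) (hp6 : p.Coprime 6) (hqp : q ≠ p)
    (hsQ : P.s ∈ normalizer (Q : Set X)) (hsU : P.s ∈ normalizer (U : Set X))
    (hQU : Q ≤ normalizer (U : Set X)) (hfix : ∀ u ∈ U, P.s * u = u * P.s → u = 1) :
    ⁅Q, zpowers P.s⁆ ≤ Subgroup.centralizer (U : Set X) := by
  refine Cfsg.Lib.OddP.commutator_centralizes Nat.prime_three hq ?_ ?_ ?_ hqp P.hs hQ hU hsQ hsU hQU ?_
  · rintro rfl; norm_num at hq6
  · rintro rfl; norm_num at hq6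
  · rintro rfl; norm_num at hp6
  · rw [eq_bot_iff]
    rintro u ⟨hu, huc⟩
    exact mem_bot.2 (hfix u hu (mem_centralizer_singleton_iff.1 huc).symm)

theorem mem_or_exists_fixed {H : Subgroup X} (h : ∀ u ∈ H, P.s * u = u * P.s → u = 1)
    (hsH : P.s ∈ normalizer (H : Set X)) (hc : (Nat.card H).Coprime 6) {K : Subgroup X} (hK : K ≤ H)
    (hsK : P.s ∈ normalizer (K : Set X)) {x : X} (hx : x ∈ H) (hxK : x⁻¹ * (P.s * x * P.s⁻¹) ∈ K) : x ∈ K := by
  obtain ⟨d, hd, hf⟩ := exists_fixed_s (coprime_mono hK hc) hsK hxK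
  rw [eq_inv_of_mul_eq_one_left (h _ (mul_mem hx (hK hd)) hf)]
  exact inv_mem hd

end Pair

end Cfsg.Lib.SThree
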