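/-
An abelian `q`-group `Q` acting on an abelian `p`-group `V` without fixed points, both normalised by
`s` and `t`: the subgroups of `Q` with cyclic quotient and nontrivial fixed points on `V`.
-/
import Cfsg.Agent.SolvStruct.SThree.Basic

set_option linter.style.haveILetI false
set_option linter.unusedSectionVars false

namespace Cfsg.Lib.SThree

open Subgroup Cfsg.Lib.Coprime
open scoped commutatorElement

universe u

variable {X : Type u} [Group X] [Finite X]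

/-- The standing hypotheses of this file. -/
structure Setup (P : Pair X) (G0 : Subgroup X) (p q : ℕ) (V Q : Subgroup X) : Prop where
  hp : p.Prime
  hq : q.Prime
  hqp : q ≠ p
  hG : P.Stable G0
  hf : P.Free G0
  hc : (Nat.card G0).Coprime 6
  hVG : V ≤ G0
  hQG : Q ≤ G0
  hV : P.Stable V
  hQ : P.Stable Q
  hVc : IsMulCommutative V
  hQc : IsMulCommutative Q
  hVp : IsPGroup p V
  hQp : IsPGroup q Q
  hQV : Q ≤ normalizer (V : Set X)
  hCVQ : V ⊓ centralizer (Q : Set X) = ⊥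

/-- `K` is a subgroup of prime index of `Q` with fixed points on `V`. -/
def IsRoot (V Q K : Subgroup X) : Prop :=
  K ≤ Q ∧ V ⊓ centralizer (K : Set X) ≠ ⊥ ∧ ∀ x ∈ Q, x ∉ K → K ⊔ zpowers x = Q

theorem eq_of_mul_eq_mul {A B : Subgroup X} (h : A ⊓ B = ⊥) {a a' b b' : X} (ha : a ∈ A) (ha' : a' ∈ A)
    (hb : b ∈ B) (hb' : b' ∈ B) (he : a * b = a' * b') : a = a' := by
  have h1 : a'⁻¹ * a = b' * b⁻¹ := by
    rw [eq_mul_inv_iff_mul_eq, mul_assoc, he, inv_mul_cancel_left]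
  have h2 : a'⁻¹ * a ∈ A ⊓ B :=
    Subgroup.mem_inf.2 ⟨mul_mem (inv_mem ha') ha, h1 ▸ mul_mem hb' (inv_mem hb)⟩
  rw [h, mem_bot, inv_mul_eq_one] at h2
  exact h2.symm

namespace Setup

variable {P : Pair X} {G0 : Subgroup X} {p q : ℕ} {V Q : Subgroup X}

theorem p6 (S : Setup P G0 p q V Q) (h : V ≠ ⊥) : p.Coprime 6 := by
  haveI := Fact.mk S.hp
  exact Nat.Coprime.coprime_dvd_left (S.hVp.card_eq_or_dvd.resolve_left fun e => h (Subgroup.card_eq_one.1 e))
    (Pair.coprime_mono S.hVG S.hc)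

theorem q6 (S : Setup P G0 p q V Q) (h : Q ≠ ⊥) : q.Coprime 6 := by
  haveI := Fact.mk S.hq
  exact Nat.Coprime.coprime_dvd_left (S.hQp.card_eq_or_dvd.resolve_left fun e => h (Subgroup.card_eq_one.1 e))
    (Pair.coprime_mono S.hQG S.hc)

theorem coprime (S : Setup P G0 p q V Q) {L : Subgroup X} (hL : L ≤ Q) :
    (Nat.card L).Coprime (Nat.card V) := by
  haveI := Fact.mk S.hp
  haveI := Fact.mk S.hq
  obtain ⟨i, hi⟩ := S.hVp.exists_card_eq
  obtain ⟨j, hj⟩ := (S.hQp.to_le hL).exists_card_eq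
  rw [hi, hj]
  exact Nat.Coprime.pow _ _ ((Nat.coprime_primes S.hq S.hp).2 S.hqp)

theorem next (S : Setup P G0 p q V Q) : Setup P.next G0 p q V Q :=
  { S with hG := S.hG.next, hf := S.hf.next, hV := S.hV.next, hQ := S.hQ.next }

/-- the fixed points and the commutator of a subgroup of `Q` -/
theorem decomp (S : Setup P G0 p q V Q) {K : Subgroup X} (hK : K ≤ Q) :
    (V ⊓ centralizer (K : Set X)) ⊓ ⁅V, K⁆ = ⊥ ∧ (V ⊓ centralizer (K : Set X)) ⊔ ⁅V, K⁆ = V := by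
  haveI := S.hVc
  exact abelian_coprime_decomp (hK.trans S.hQV) (S.coprime hK)

theorem exists_decomp (S : Setup P G0 p q V Q) {K : Subgroup X} (hK : K ≤ Q) {u : X} (hu : u ∈ V) :
    ∃ a ∈ V ⊓ centralizer (K : Set X), ∃ b ∈ ⁅V, K⁆, u = a * b := by
  haveI := S.hVc
  have hle : ⁅V, K⁆ ≤ V := commutator_le_of_le_normalizer (hK.trans S.hQV)
  have hn : ⁅V, K⁆ ≤ normalizer ((V ⊓ centralizer (K : Set X) : Subgroup X) : Set X) := fun x hx =>
    mem_normalizer_of_conj_mem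
      (fun y hy => by
        rw [show x * y * x⁻¹ = y by
          rw [show x * y = y * x from congrArg Subtype.val (mul_comm' (⟨x, hle hx⟩ : V) ⟨y, hy.1⟩), mul_inv_cancel_right]]
        exact hy)
      (fun y hy => by
        rw [show x⁻¹ * y * x = y by
          rw [mul_assoc, show y * x = x * y from congrArg Subtype.val (mul_comm' (⟨y, hy.1⟩ : V) ⟨x, hle hx⟩),
            inv_mul_cancel_left]]
        exact hy)
  rw [← (S.decomp hK).2] at hu
  obtain ⟨a, ha, b, hb, hab⟩ := (mem_sup_of_le_normalizer hn).1 hu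
  exact ⟨a, ha, b, hb, hab.symm⟩

theorem inf_centralizer_root_self (S : Setup P G0 p q V Q) {K : Subgroup X} (hK : IsRoot V Q K) {x u : X}
    (hxQ : x ∈ Q) (hxK : x ∉ K) (hu : u ∈ V ⊓ centralizer (K : Set X)) (hxu : x * u = u * x) : u = 1 := by
  have hle : Q ≤ centralizer ({u} : Set X) := by
    rw [← hK.2.2 x hxQ hxK, sup_le_iff, zpowers_le]
    exact ⟨fun k hk => mem_centralizer_singleton_iff.2 (mem_centralizer_iff.1 (Subgroup.mem_inf.1 hu).2 k hk),
      mem_centralizer_singleton_iff.2 hxu⟩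
  have : u ∈ V ⊓ centralizer (Q : Set X) := Subgroup.mem_inf.2
    ⟨(Subgroup.mem_inf.1 hu).1, mem_centralizer_iff.2 fun k hk => mem_centralizer_singleton_iff.1 (hle hk)⟩
  rw [S.hCVQ] at this
  exact mem_bot.1 this

/-- an element of `Q` fixing a nontrivial fixed point of a root lies in the root -/
theorem mem_root (S : Setup P G0 p q V Q) {K : Subgroup X} (hK : IsRoot V Q K) {x u : X}
    (hxQ : x ∈ Q) (hu : u ∈ V ⊓ centralizer (K : Set X)) (hu1 : u ≠ 1) (hxu : x * u = u * x) : x ∈ K :=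
  by_contra fun h => hu1 (S.inf_centralizer_root_self hK hxQ h hu hxu)

theorem exists_ne_one {H : Subgroup X} (h : H ≠ ⊥) : ∃ u ∈ H, u ≠ 1 := by
  by_contra hc
  push Not at hc
  exact h ((eq_bot_iff_forall _).2 hc)

theorem root_ne_top (S : Setup P G0 p q V Q) {K : Subgroup X} (hK : IsRoot V Q K) : K ≠ Q := by
  rintro rfl
  exact hK.2.1 S.hCVQ

/-- the fixed points of two different roots are independent -/
theorem mem_commutator_of_ne (S : Setup P G0 p q V Q) {K K' : Subgroup X} (hK : IsRoot V Q K)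
    (hK' : IsRoot V Q K') (hne : K' ≠ K) {u : X} (hu : u ∈ V ⊓ centralizer (K' : Set X)) :
    u ∈ ⁅V, K⁆ := by
  obtain ⟨y, hy, hyK⟩ : ∃ y ∈ K', y ∉ K := by
    by_contra hc
    push Not at hc
    obtain ⟨x, hx, hxK'⟩ := SetLike.exists_of_lt (lt_of_le_of_ne (show K' ≤ K from hc) hne)
    refine S.root_ne_top hK (le_antisymm hK.1 ?_)
    rw [← hK'.2.2 x (hK.1 hx) hxK', sup_le_iff, zpowers_le]
    exact ⟨hc, hx⟩
  obtain ⟨a, ha, b, hb, rfl⟩ := S.exists_decomp hK.1 (Subgroup.mem_inf.1 hu).1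
  have hyQ : y ∈ Q := hK'.1 hy
  have hyKn : y ∈ normalizer (K : Set X) := by
    haveI := S.hQc
    refine mem_normalizer_of_conj_mem (fun z hz => ?_) (fun z hz => ?_)
    · rwa [show y * z = z * y from congrArg Subtype.val (mul_comm' (⟨y, hyQ⟩ : Q) ⟨z, hK.1 hz⟩), mul_inv_cancel_right]
    · rwa [mul_assoc, show z * y = y * z from congrArg Subtype.val (mul_comm' (⟨z, hK.1 hz⟩ : Q) ⟨y, hyQ⟩),
        inv_mul_cancel_left]
  have hyV : y ∈ normalizer (V : Set X) := S.hQV hyQ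
  have h1 : y * a * y⁻¹ ∈ V ⊓ centralizer (K : Set X) := Pair.conj_mem
    (le_normalizer_inf (N := V) (M := centralizer (K : Set X)) (H := zpowers y) (zpowers_le.2 hyV)
      (zpowers_le.2 (Pair.normalizer_le_normalizer_centralizer K hyKn)) (mem_zpowers y)) ha
  have h2 : y * b * y⁻¹ ∈ ⁅V, K⁆ := by
    have : ⁅V, K⁆.map (MulAut.conj y).toMonoidHom = ⁅V, K⁆ := by
      rw [map_commutator, show V.map (MulAut.conj y).toMonoidHom = V from conjMap_eq_self hyV,
        show K.map (MulAut.conj y).toMonoidHom = K from conjMap_eq_self hyKn]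
    rw [← this]
    exact ⟨b, hb, rfl⟩
  have h3 : (y * a * y⁻¹) * (y * b * y⁻¹) = a * b := by
    have h := mem_centralizer_iff.1 (Subgroup.mem_inf.1 hu).2 y hy
    calc (y * a * y⁻¹) * (y * b * y⁻¹) = y * (a * b) * y⁻¹ := by group
      _ = _ := by rw [h, mul_inv_cancel_right]
  have h4 := eq_of_mul_eq_mul (S.decomp hK.1).1 h1 ha h2 hb h3
  rw [S.inf_centralizer_root_self hK hyQ hyK ha (by
    conv_rhs => rw [← h4]
    group), one_mul]
  exact hb

/-- conjugates of roots -/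
theorem root_conj (S : Setup P G0 p q V Q) {K : Subgroup X} (hK : IsRoot V Q K) {g : X}
    (hgQ : g ∈ normalizer (Q : Set X)) (hgV : g ∈ normalizer (V : Set X)) : IsRoot V Q (conjMap g K) := by
  refine ⟨fun x hx => ?_, ?_, fun x hx hxK => ?_⟩
  · rw [← conjMap_eq_self hgQ]; exact conjMap_mono hK.1 hx
  · obtain ⟨u, hu, hu1⟩ := exists_ne_one hK.2.1
    refine fun e => hu1 ?_
    have : g * u * g⁻¹ ∈ V ⊓ centralizer (conjMap g K : Set X) := Subgroup.mem_inf.2
      ⟨Pair.conj_mem hgV (Subgroup.mem_inf.1 hu).1, mem_centralizer_iff.2 fun k hk => by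
        have h := mem_centralizer_iff.1 (Subgroup.mem_inf.1 hu).2 _ (mem_conjMap.1 hk)
        calc k * (g * u * g⁻¹) = g * (g⁻¹ * k * g * u) * g⁻¹ := by group
          _ = g * (u * (g⁻¹ * k * g)) * g⁻¹ := by rw [h]
          _ = _ := by group⟩
    rw [e, mem_bot] at this
    simpa using this
  · have h1 : g⁻¹ * x * g ∈ Q := by
      have := Pair.conj_mem (inv_mem hgQ) hx
      rwa [inv_inv] at this
    have h2 := congrArg (conjMap g) (hK.2.2 _ h1 fun h => hxK (mem_conjMap.2 h))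
    rw [conjMap_sup, conjMap_eq_self hgQ] at h2
    rw [← h2]
    congr 1
    rw [conjMap, MonoidHom.map_zpowers]
    congr 1
    simp [mul_assoc]

theorem conj_fixed {K : Subgroup X} {g u : X} (hgV : g ∈ normalizer (V : Set X))
    (hu : u ∈ V ⊓ centralizer (K : Set X)) : g * u * g⁻¹ ∈ V ⊓ centralizer (conjMap g K : Set X) :=
  Subgroup.mem_inf.2 ⟨Pair.conj_mem hgV (Subgroup.mem_inf.1 hu).1, mem_centralizer_iff.2 fun k hk => by
    have h := mem_centralizer_iff.1 (Subgroup.mem_inf.1 hu).2 _ (mem_conjMap.1 hk)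
    calc k * (g * u * g⁻¹) = g * (g⁻¹ * k * g * u) * g⁻¹ := by group
      _ = g * (u * (g⁻¹ * k * g)) * g⁻¹ := by rw [h]
      _ = _ := by group⟩

theorem s_not_normalizes (S : Setup P G0 p q V Q) {K : Subgroup X} (hK : IsRoot V Q K)
    (hfixQ : ∀ x ∈ Q, P.s * x = x * P.s → x ∈ K) : P.s ∉ normalizer (K : Set X) := by
  intro hsK
  haveI := Fact.mk S.hp
  haveI := S.hQc
  set W := V ⊓ centralizer (K : Set X)
  have hVne : V ≠ ⊥ := fun e => hK.2.1 (le_bot_iff.1 (e ▸ inf_le_left))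
  have hQne : Q ≠ ⊥ := fun e => S.root_ne_top hK (le_antisymm hK.1 (e ▸ bot_le))
  have hsW : P.s ∈ normalizer (W : Set X) := le_normalizer_inf (zpowers_le.2 S.hV.s)
    (zpowers_le.2 (Pair.normalizer_le_normalizer_centralizer K hsK)) (mem_zpowers _)
  have hQK : Q ≤ normalizer (K : Set X) := fun y hy =>
    mem_normalizer_of_conj_mem (fun z hz => by
      rwa [show y * z = z * y from congrArg Subtype.val (mul_comm' (⟨y, hy⟩ : Q) ⟨z, hK.1 hz⟩), mul_inv_cancel_right])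
      (fun z hz => by
        rwa [mul_assoc, show z * y = y * z from congrArg Subtype.val (mul_comm' (⟨z, hK.1 hz⟩ : Q) ⟨y, hy⟩),
          inv_mul_cancel_left])
  have hQW : Q ≤ normalizer (W : Set X) :=
    le_normalizer_inf S.hQV (hQK.trans (Pair.normalizer_le_normalizer_centralizer K))
  -- `s` fixes a point of `W`
  obtain ⟨w, hw, hw1, hws⟩ : ∃ w ∈ W, w ≠ 1 ∧ P.s * w = w * P.s := by
    by_contra hc
    push Not at hc
    have hle := Pair.commutator_le_centralizer (P := P) S.hq S.hQp (S.hVp.to_le inf_le_left) (S.q6 hQne)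
      (S.p6 hVne) S.hqp S.hQ.s hsW hQW fun u hu hus => by_contra fun h => hc u hu h hus
    have hCK : ⁅Q, zpowers P.s⁆ ≤ K := fun x hx => by
      obtain ⟨u, hu, hu1⟩ := exists_ne_one hK.2.1
      exact S.mem_root hK (commutator_le_of_le_normalizer (zpowers_le.2 S.hQ.s) hx) hu hu1
        (mem_centralizer_iff.1 (hle hx) u hu).symm
    refine S.root_ne_top hK (le_antisymm hK.1 ?_)
    rw [← commutator_sup_centralizer (zpowers_le.2 S.hQ.s)
      (Pair.coprime_s (Pair.coprime_mono S.hQG S.hc)) (Or.inl Pair.isSolvable_s)]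
    exact sup_le hCK fun x hx => hfixQ x hx.1 (Pair.mem_centralizer_s.1 hx.2)
  -- so `t` normalises `K` as well
  have htw : P.t * w * P.t⁻¹ = w⁻¹ :=
    Pair.inverted S.hf S.hG S.hc (S.hVG (Subgroup.mem_inf.1 hw).1) hws
  have htK : ∀ x ∈ K, P.t * x * P.t⁻¹ ∈ K := by
    intro x hx
    refine S.mem_root hK (Pair.conj_mem S.hQ.t (hK.1 hx)) (inv_mem hw) (inv_ne_one.2 hw1) ?_
    rw [← htw]
    calc P.t * x * P.t⁻¹ * (P.t * w * P.t⁻¹) = P.t * (x * w) * P.t⁻¹ := by group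
      _ = P.t * (w * x) * P.t⁻¹ := by rw [mem_centralizer_iff.1 (Subgroup.mem_inf.1 hw).2 x hx]
      _ = _ := by group
  have htK' : P.t ∈ normalizer (K : Set X) := mem_normalizer_of_conj_mem htK fun x hx => by
    have := htK x hx
    rwa [P.t_inv] at this ⊢
  -- a cyclic quotient has commutative automorphisms, so `s` fixes it
  obtain ⟨x, hxQ, hxK⟩ := SetLike.exists_of_lt (lt_of_le_of_ne hK.1 (S.root_ne_top hK))
  obtain ⟨d, hd, hfix⟩ : ∃ d ∈ K, P.s * (x * d) = x * d * P.s := by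
    refine Pair.exists_fixed_s (Pair.coprime_mono (hK.1.trans S.hQG) S.hc) hsK ?_
    set N := normalizer (Q : Set X) ⊓ normalizer (K : Set X)
    let π := fun y : X => y
    have hrep : ∀ g ∈ N, ∃ a : ℤ, (x ^ a)⁻¹ * (g * x * g⁻¹) ∈ K := by
      intro g hg
      have h1 : g * x * g⁻¹ ∈ K ⊔ zpowers x := (hK.2.2 x hxQ hxK).symm ▸ Pair.conj_mem hg.1 hxQ
      obtain ⟨k, hk, y, ⟨a, rfl⟩, he⟩ := (mem_sup_of_le_normalizer (zpowers_le.2 (hQK hxQ))).1 h1
      refine ⟨a, ?_⟩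
      have hk' : k * x ^ a = x ^ a * k :=
        congrArg Subtype.val (mul_comm' (⟨k, hK.1 hk⟩ : Q) ⟨x ^ a, zpow_mem hxQ a⟩)
      show (x ^ a)⁻¹ * (g * x * g⁻¹) ∈ K
      rw [← he]
      show (x ^ a)⁻¹ * (k * x ^ a) ∈ K
      rw [hk', inv_mul_cancel_left]; exact hk
    have hcomm : ∀ g ∈ N, ∀ h ∈ N, (h * g * x * (h * g)⁻¹)⁻¹ * (g * h * x * (g * h)⁻¹) ∈ K := by
      intro g hg h hh
      obtain ⟨a, ha⟩ := hrep g hg
      obtain ⟨b, hb⟩ := hrep h hh
      have e1 : (x ^ (b * a))⁻¹ * (h * g * x * (h * g)⁻¹) ∈ K := by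
        have h1 := Pair.conj_mem hh.2 ha
        have h2 : h * ((x ^ a)⁻¹ * (g * x * g⁻¹)) * h⁻¹ = ((h * x * h⁻¹) ^ a)⁻¹ * (h * g * x * (h * g)⁻¹) := by
          rw [conj_zpow]; group
        rw [h2] at h1
        have h3 : (x ^ (b * a))⁻¹ * (h * x * h⁻¹) ^ a ∈ K := by
          obtain ⟨k, hk, hk'⟩ : ∃ k ∈ K, h * x * h⁻¹ = x ^ b * k := ⟨_, hb, by group⟩
          have hcm : Commute (x ^ b) k := congrArg Subtype.val (mul_comm' (⟨x ^ b, zpow_mem hxQ b⟩ : Q) ⟨k, hK.1 hk⟩)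
          rw [hk', hcm.mul_zpow, ← zpow_mul, inv_mul_cancel_left]
          exact zpow_mem hk a
        have h4 := mul_mem h3 h1
        rwa [mul_assoc, mul_inv_cancel_left] at h4
      have e2 : (x ^ (a * b))⁻¹ * (g * h * x * (g * h)⁻¹) ∈ K := by
        have h1 := Pair.conj_mem hg.2 hb
        have h2 : g * ((x ^ b)⁻¹ * (h * x * h⁻¹)) * g⁻¹ = ((g * x * g⁻¹) ^ b)⁻¹ * (g * h * x * (g * h)⁻¹) := by
          rw [conj_zpow]; group
        rw [h2] at h1
        have h3 : (x ^ (a * b))⁻¹ * (g * x * g⁻¹) ^ b ∈ K := by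
          obtain ⟨k, hk, hk'⟩ : ∃ k ∈ K, g * x * g⁻¹ = x ^ a * k := ⟨_, ha, by group⟩
          have hcm : Commute (x ^ a) k := congrArg Subtype.val (mul_comm' (⟨x ^ a, zpow_mem hxQ a⟩ : Q) ⟨k, hK.1 hk⟩)
          rw [hk', hcm.mul_zpow, ← zpow_mul, inv_mul_cancel_left]
          exact zpow_mem hk b
        have h4 := mul_mem h3 h1
        rwa [mul_assoc, mul_inv_cancel_left] at h4
      have h5 := mul_mem (inv_mem e1) e2
      rw [mul_comm b a] at h5
      rwa [mul_inv_rev, inv_inv, mul_assoc, mul_inv_cancel_left] at h5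
    have hsN : P.s ∈ N := Subgroup.mem_inf.2 ⟨S.hQ.s, hsK⟩
    have htN : P.t ∈ N := Subgroup.mem_inf.2 ⟨S.hQ.t, htK'⟩
    have h6 := hcomm _ htN _ hsN
    rw [P.t_s] at h6
    -- conjugate back by `t` and by `s`
    have h7 := Pair.conj_mem (inv_mem htK') (Pair.conj_mem hsK h6)
    have e : P.t⁻¹ * (P.s * ((P.s * P.t * x * (P.s * P.t)⁻¹)⁻¹ * (P.s⁻¹ * P.t * x * (P.s⁻¹ * P.t)⁻¹)) * P.s⁻¹) * P.t⁻¹⁻¹ =
        ((P.t⁻¹ * (P.s * P.s) * P.t) * x * (P.t⁻¹ * (P.s * P.s) * P.t)⁻¹)⁻¹ * x := by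
      simp only [mul_inv_rev, inv_inv, mul_assoc, inv_mul_cancel, inv_mul_cancel_left, mul_inv_cancel_left, mul_one]
    rw [e] at h7
    have e2 : P.t⁻¹ * (P.s * P.s) * P.t = P.s := by
      rw [P.ss, P.t_inv]
      have := congrArg (·⁻¹) P.hts
      simp only [mul_inv_rev, inv_inv, P.t_inv] at this
      rw [mul_assoc]; exact this
    rw [e2] at h7
    have h8 := inv_mem h7
    rwa [mul_inv_rev, inv_inv] at h8
  have := mul_mem (hfixQ _ (mul_mem hxQ (hK.1 hd)) hfix) (inv_mem hd)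
  rw [mul_inv_cancel_right] at this
  exact hxK this

/-- a root moved by `s`: the orbit product -/
theorem orbit (S : Setup P G0 p q V Q) {K : Subgroup X} (hK : IsRoot V Q K) (hsK : P.s ∉ normalizer (K : Set X))
    {v : X} (hv : v ∈ V ⊓ centralizer (K : Set X)) :
    P.s * v * P.s⁻¹ ∈ ⁅V, K⁆ ∧ P.s⁻¹ * v * P.s⁻¹⁻¹ ∈ ⁅V, K⁆ ∧
      P.s * (v * (P.s * v * P.s⁻¹) * (P.s⁻¹ * v * P.s⁻¹⁻¹)) =
        v * (P.s * v * P.s⁻¹) * (P.s⁻¹ * v * P.s⁻¹⁻¹) * P.s := by
  have hne : ∀ g, (g = P.s ∨ g = P.s⁻¹) → conjMap g K ≠ K := by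
    rintro g (rfl | rfl) he
    · exact hsK (conjMap_eq_self_iff.1 he)
    · exact hsK (by simpa using inv_mem (conjMap_eq_self_iff.1 he))
  refine ⟨S.mem_commutator_of_ne hK (S.root_conj hK S.hQ.s S.hV.s) (hne _ (Or.inl rfl)) (conj_fixed S.hV.s hv),
    S.mem_commutator_of_ne hK (S.root_conj hK (inv_mem S.hQ.s) (inv_mem S.hV.s)) (hne _ (Or.inr rfl))
      (conj_fixed (inv_mem S.hV.s) hv), ?_⟩
  set a := v
  set b := P.s * v * P.s⁻¹
  set c := P.s⁻¹ * v * P.s⁻¹⁻¹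
  have hb : b ∈ V := Pair.conj_mem S.hV.s (Subgroup.mem_inf.1 hv).1
  have hc : c ∈ V := Pair.conj_mem (inv_mem S.hV.s) (Subgroup.mem_inf.1 hv).1
  haveI := S.hVc
  have hab : a * (b * c) = b * c * a :=
    congrArg Subtype.val (mul_comm' (⟨a, (Subgroup.mem_inf.1 hv).1⟩ : V) ⟨b * c, mul_mem hb hc⟩)
  have e1 : P.s * b * P.s⁻¹ = c := by
    show P.s * (P.s * v * P.s⁻¹) * P.s⁻¹ = P.s⁻¹ * v * P.s⁻¹⁻¹
    calc P.s * (P.s * v * P.s⁻¹) * P.s⁻¹ = (P.s * P.s) * v * (P.s * P.s)⁻¹ := by group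
      _ = _ := by rw [P.ss]
  have e2 : P.s * c * P.s⁻¹ = a := by
    show P.s * (P.s⁻¹ * v * P.s⁻¹⁻¹) * P.s⁻¹ = v
    group
  calc P.s * (a * b * c) = (P.s * a * P.s⁻¹) * (P.s * b * P.s⁻¹) * (P.s * c * P.s⁻¹) * P.s := by group
    _ = b * c * a * P.s := by rw [e1, e2]
    _ = a * b * c * P.s := by rw [← hab, mul_assoc a b c]

/-- some involution fixes the moved root, and inverts its fixed points -/
theorem exists_twist (S : Setup P G0 p q V Q) {K : Subgroup X} (hK : IsRoot V Q K)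
    (hsK : P.s ∉ normalizer (K : Set X)) :
    ∃ D : Pair X, D.s = P.s ∧ D.grp = P.grp ∧ Setup D G0 p q V Q ∧ D.t ∈ normalizer (K : Set X) ∧
      ∀ v ∈ V ⊓ centralizer (K : Set X), D.t * v * D.t⁻¹ = v⁻¹ := by
  haveI := S.hVc
  have hs3 : P.s⁻¹ = P.s * P.s := P.ss.symm
  have key : ∀ v ∈ V ⊓ centralizer (K : Set X), v ≠ 1 → ∃ g, (g = P.t ∨ g = P.t * P.s ∨ g = P.t * P.s⁻¹) ∧
      conjMap g K = K := by
    intro v hv hv1
    by_contra hc
    push Not at hc
    obtain ⟨hb, hcm, hfix⟩ := S.orbit hK hsK hv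
    set b := P.s * v * P.s⁻¹
    set c := P.s⁻¹ * v * P.s⁻¹⁻¹
    have hvV := (Subgroup.mem_inf.1 hv).1
    have hbV : b ∈ V := Pair.conj_mem S.hV.s hvV
    have hcV : c ∈ V := Pair.conj_mem (inv_mem S.hV.s) hvV
    have hw := Pair.inverted S.hf S.hG S.hc (S.hVG (mul_mem (mul_mem hvV hbV) hcV)) hfix
    have hmove : ∀ g, (g = P.t ∨ g = P.t * P.s ∨ g = P.t * P.s⁻¹) → g * v * g⁻¹ ∈ ⁅V, K⁆ := fun g hg => by
      have hgQ : g ∈ normalizer (Q : Set X) := by
        rcases hg with rfl | rfl | rfl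
        exacts [S.hQ.t, mul_mem S.hQ.t S.hQ.s, mul_mem S.hQ.t (inv_mem S.hQ.s)]
      have hgV : g ∈ normalizer (V : Set X) := by
        rcases hg with rfl | rfl | rfl
        exacts [S.hV.t, mul_mem S.hV.t S.hV.s, mul_mem S.hV.t (inv_mem S.hV.s)]
      exact S.mem_commutator_of_ne hK (S.root_conj hK hgQ hgV) (hc g hg) (conj_fixed hgV hv)
    have h1 : (v * b * c)⁻¹ ∈ ⁅V, K⁆ := by
      rw [← hw, show P.t * (v * b * c) * P.t⁻¹ = (P.t * v * P.t⁻¹) * (P.t * b * P.t⁻¹) * (P.t * c * P.t⁻¹) by group]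
      refine mul_mem (mul_mem (hmove _ (Or.inl rfl)) ?_) ?_
      · rw [show P.t * b * P.t⁻¹ = (P.t * P.s) * v * (P.t * P.s)⁻¹ by simp only [b]; group]
        exact hmove _ (Or.inr (Or.inl rfl))
      · rw [show P.t * c * P.t⁻¹ = (P.t * P.s⁻¹) * v * (P.t * P.s⁻¹)⁻¹ by simp only [c]; group]
        exact hmove _ (Or.inr (Or.inr rfl))
    have h2 := mul_mem (mul_mem (inv_mem h1) (inv_mem hcm)) (inv_mem hb)
    rw [inv_inv, mul_inv_cancel_right, mul_inv_cancel_right] at h2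
    have h3 : v ∈ (V ⊓ centralizer (K : Set X)) ⊓ ⁅V, K⁆ := Subgroup.mem_inf.2 ⟨hv, h2⟩
    rw [(S.decomp hK.1).1, mem_bot] at h3
    exact hv1 h3
  obtain ⟨v0, hv0, hv01⟩ := exists_ne_one hK.2.1
  obtain ⟨g, hg, hgK⟩ := key v0 hv0 hv01
  -- reduce to the case that `P.t` fixes `K`
  have main : ∀ D : Pair X, Setup D G0 p q V Q → D.s = P.s → conjMap D.t K = K →
      ∀ v ∈ V ⊓ centralizer (K : Set X), D.t * v * D.t⁻¹ = v⁻¹ := by
    intro D S' hDs hDt v hv
    have hsK' : D.s ∉ normalizer (K : Set X) := hDs ▸ hsK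
    obtain ⟨hb, hcm, hfix⟩ := S'.orbit hK hsK' hv
    set b := D.s * v * D.s⁻¹
    set c := D.s⁻¹ * v * D.s⁻¹⁻¹
    have hvV := (Subgroup.mem_inf.1 hv).1
    have hbV : b ∈ V := Pair.conj_mem S'.hV.s hvV
    have hcV : c ∈ V := Pair.conj_mem (inv_mem S'.hV.s) hvV
    have hw := Pair.inverted S'.hf S'.hG S'.hc (S'.hVG (mul_mem (mul_mem hvV hbV) hcV)) hfix
    have h0 : D.t * v * D.t⁻¹ ∈ V ⊓ centralizer (K : Set X) := by
      have := conj_fixed S'.hV.t hv
      rwa [hDt] at this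
    have e1 : D.t * b * D.t⁻¹ = D.s⁻¹ * (D.t * v * D.t⁻¹) * D.s⁻¹⁻¹ := by
      show D.t * (D.s * v * D.s⁻¹) * D.t⁻¹ = _
      calc D.t * (D.s * v * D.s⁻¹) * D.t⁻¹ = (D.t * D.s * D.t⁻¹) * (D.t * v * D.t⁻¹) * (D.t * D.s * D.t⁻¹)⁻¹ := by group
        _ = _ := by rw [D.conj_s]
    have e2 : D.t * c * D.t⁻¹ = D.s * (D.t * v * D.t⁻¹) * D.s⁻¹ := by
      show D.t * (D.s⁻¹ * v * D.s⁻¹⁻¹) * D.t⁻¹ = _
      calc D.t * (D.s⁻¹ * v * D.s⁻¹⁻¹) * D.t⁻¹ =
            (D.t * D.s * D.t⁻¹)⁻¹ * (D.t * v * D.t⁻¹) * (D.t * D.s * D.t⁻¹) := by group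
        _ = _ := by rw [D.conj_s, inv_inv]
    obtain ⟨hb', hc', -⟩ := S'.orbit hK hsK' h0
    rw [← e1] at hc'
    rw [← e2] at hb'
    have he : (D.t * v * D.t⁻¹) * ((D.t * b * D.t⁻¹) * (D.t * c * D.t⁻¹)) = v⁻¹ * (b⁻¹ * c⁻¹) := by
      clear_value b c
      rw [show (D.t * v * D.t⁻¹) * ((D.t * b * D.t⁻¹) * (D.t * c * D.t⁻¹)) = D.t * (v * b * c) * D.t⁻¹ by group, hw]
      have h1 : b⁻¹ * c⁻¹ = c⁻¹ * b⁻¹ :=
        congrArg Subtype.val (mul_comm' (⟨b⁻¹, inv_mem hbV⟩ : V) ⟨c⁻¹, inv_mem hcV⟩)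
      have h2 : v⁻¹ * (c⁻¹ * b⁻¹) = c⁻¹ * b⁻¹ * v⁻¹ :=
        congrArg Subtype.val (mul_comm' (⟨v⁻¹, inv_mem hvV⟩ : V) ⟨c⁻¹ * b⁻¹, mul_mem (inv_mem hcV) (inv_mem hbV)⟩)
      rw [h1, h2, mul_inv_rev, mul_inv_rev, ← mul_assoc]
    exact eq_of_mul_eq_mul (S'.decomp hK.1).1 h0 (inv_mem hv) (mul_mem hc' hb') (mul_mem (inv_mem hb) (inv_mem hcm)) he
  rcases hg with rfl | rfl | rfl
  · exact ⟨P, rfl, rfl, S, conjMap_eq_self_iff.1 hgK, main P S rfl hgK⟩
  · exact ⟨P.next, rfl, P.next_grp, S.next, conjMap_eq_self_iff.1 hgK, main _ S.next rfl hgK⟩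
  · have he : P.next.next.t = P.t * P.s⁻¹ := by
      show P.t * P.s * P.s = _
      rw [mul_assoc, P.ss]
    exact ⟨P.next.next, rfl, by rw [P.next.next_grp, P.next_grp], S.next.next,
      he ▸ conjMap_eq_self_iff.1 hgK, main _ S.next.next rfl (by rw [he]; exact hgK)⟩

/-- a root that does not contain a given subgroup acting nontrivially -/
theorem exists_root (S : Setup P G0 p q V Q) (hQe : ∀ x ∈ Q, x ^ q = 1) {Q1 : Subgroup X} (hQ1 : Q1 ≤ Q)
    (hne : ¬ Q1 ≤ centralizer (V : Set X)) : ∃ K, IsRoot V Q K ∧ ¬ Q1 ≤ K := by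
  classical
  haveI := Fact.mk S.hq
  haveI := S.hQc
  set W := ⁅V, Q1⁆
  have hWV : W ≤ V := commutator_le_of_le_normalizer (hQ1.trans S.hQV)
  have hW : W ≠ ⊥ := fun e => hne fun x hx => mem_centralizer_iff.2 fun v hv => by
    have h := commutator_mem_commutator hv hx
    rw [show ⁅V, Q1⁆ = W from rfl, e, mem_bot, commutatorElement_eq_one_iff_mul_comm] at h
    exact h
  have hQW : Q ≤ normalizer (W : Set X) := fun y hy => by
    have hy1 : y ∈ normalizer (Q1 : Set X) := mem_normalizer_of_conj_mem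
      (fun z hz => by
        rwa [show y * z = z * y from congrArg Subtype.val (mul_comm' (⟨y, hy⟩ : Q) ⟨z, hQ1 hz⟩), mul_inv_cancel_right])
      (fun z hz => by
        rwa [mul_assoc, show z * y = y * z from congrArg Subtype.val (mul_comm' (⟨z, hQ1 hz⟩ : Q) ⟨y, hy⟩),
          inv_mul_cancel_left])
    rw [← conjMap_eq_self_iff, conjMap, map_commutator,
      show V.map (MulAut.conj y).toMonoidHom = V from conjMap_eq_self (S.hQV hy),
      show Q1.map (MulAut.conj y).toMonoidHom = Q1 from conjMap_eq_self hy1]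
  obtain ⟨K, ⟨hKQ, hKW⟩, hmax⟩ := (Set.toFinite {K : Subgroup X | K ≤ Q ∧ W ⊓ centralizer (K : Set X) ≠ ⊥}).exists_maximal
    ⟨⊥, bot_le, by rwa [show centralizer ((⊥ : Subgroup X) : Set X) = ⊤ by
      exact eq_top_iff.2 fun x _ => mem_centralizer_iff.2 fun h hh => by
        rw [SetLike.mem_coe, mem_bot] at hh; simp [hh], inf_top_eq]⟩
  refine ⟨K, ⟨hKQ, fun e => hKW (le_bot_iff.1 (e ▸ inf_le_inf_right _ hWV)), fun x hx hxK => ?_⟩, fun hle => ?_⟩
  · -- otherwise a subgroup of order `q^2` would avoid `K`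
    by_contra hlt
    obtain ⟨y, hy, hyn⟩ := SetLike.exists_of_lt (lt_of_le_of_ne (sup_le hKQ (zpowers_le.2 hx)) hlt)
    set E := zpowers x ⊔ zpowers y
    have hEQ : E ≤ Q := sup_le (zpowers_le.2 hx) (zpowers_le.2 hy)
    haveI : IsMulCommutative E := ⟨⟨fun a b => by
      have h : (a : X) * b = b * a :=
        congrArg Subtype.val (mul_comm' (⟨(a : X), hEQ a.2⟩ : Q) ⟨(b : X), hEQ b.2⟩)
      exact Subtype.ext h⟩⟩
    have hord : ∀ z ∈ Q, z ≠ 1 → orderOf z = q := fun z hz h1 => orderOf_eq_prime (hQe z hz) h1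
    have hEnc : ¬ IsCyclic E := by
      intro hcyc
      obtain ⟨g, hg⟩ := IsCyclic.exists_generator (α := E)
      have hzg : ∀ z ∈ E, z ∈ zpowers (g : X) := fun z hz => by
        obtain ⟨k, hk⟩ := hg ⟨z, hz⟩
        exact ⟨k, congrArg Subtype.val hk⟩
      have hx1 : x ≠ 1 := fun e => hxK (e ▸ one_mem K)
      have hg1 : (g : X) ≠ 1 := fun e => hx1 (by
        have := hzg x (mem_sup_left (mem_zpowers x)); rwa [e, zpowers_one_eq_bot, mem_bot] at this)
      have hxy : zpowers x = zpowers (g : X) := eq_of_le_of_card_ge (zpowers_le.2 (hzg x (mem_sup_left (mem_zpowers x))))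
        (by rw [Nat.card_zpowers, Nat.card_zpowers, hord x hx hx1, hord _ (hEQ g.2) hg1])
      exact hyn (mem_sup_right (hxy ▸ hzg y (mem_sup_right (mem_zpowers y))))
    set U := W ⊓ centralizer (K : Set X)
    have hQK : Q ≤ normalizer (K : Set X) := fun w hw => mem_normalizer_of_conj_mem
      (fun z hz => by
        rwa [show w * z = z * w from congrArg Subtype.val (mul_comm' (⟨w, hw⟩ : Q) ⟨z, hKQ hz⟩), mul_inv_cancel_right])
      (fun z hz => by
        rwa [mul_assoc, show z * w = w * z from congrArg Subtype.val (mul_comm' (⟨z, hKQ hz⟩ : Q) ⟨w, hw⟩),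
          inv_mul_cancel_left])
    have hEU : E ≤ normalizer (U : Set X) :=
      le_normalizer_inf (hEQ.trans hQW) (hEQ.trans (hQK.trans (Pair.normalizer_le_normalizer_centralizer K)))
    have hj := centralizerJoin_eq hEnc hEU (coprime_of_le (inf_le_left.trans hWV) (S.coprime hEQ))
    have hzero : ∀ a ∈ E, a ≠ 1 → U ⊓ centralizer ({a} : Set X) = ⊥ := by
      intro a ha ha1
      by_contra hne'
      have haK : a ∉ K := by
        intro haK
        obtain ⟨k, hk, z, hz, rfl⟩ := (mem_sup_of_le_normalizer ((zpowers_le.2 hy).trans (fun w hw => by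
          exact mem_normalizer_of_conj_mem
            (fun z hz => by
              obtain ⟨i, rfl⟩ := hz
              rw [show w * x ^ i = x ^ i * w from congrArg Subtype.val (mul_comm' (⟨w, hw⟩ : Q) ⟨x ^ i, zpow_mem hx i⟩),
                mul_inv_cancel_right]
              exact ⟨i, rfl⟩)
            (fun z hz => by
              obtain ⟨i, rfl⟩ := hz
              rw [mul_assoc, show x ^ i * w = w * x ^ i from congrArg Subtype.val (mul_comm' (⟨x ^ i, zpow_mem hx i⟩ : Q) ⟨w, hw⟩),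
                inv_mul_cancel_left]
              exact ⟨i, rfl⟩)))).1 ha
        by_cases hz1 : z = 1
        · subst hz1
          rw [mul_one] at haK ha1
          have : zpowers k = zpowers x := eq_of_le_of_card_ge (zpowers_le.2 hk)
            (by rw [Nat.card_zpowers, Nat.card_zpowers, hord k (zpowers_le.2 hx hk) ha1,
              hord x hx (fun e => hxK (e ▸ one_mem K))])
          exact hxK (zpowers_le.2 haK (this ▸ mem_zpowers x))
        · have hzz : zpowers z = zpowers y := eq_of_le_of_card_ge (zpowers_le.2 hz)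
            (by rw [Nat.card_zpowers, Nat.card_zpowers, hord z (zpowers_le.2 hy hz) hz1,
              hord y hy (fun e => hyn (e ▸ one_mem _))])
          refine hyn (zpowers_le.2 (?_ : z ∈ K ⊔ zpowers x) (hzz ▸ mem_zpowers y))
          have := mul_mem (inv_mem (mem_sup_right hk : k ∈ K ⊔ zpowers x)) (mem_sup_left haK : k * z ∈ K ⊔ zpowers x)
          rwa [inv_mul_cancel_left] at this
      obtain ⟨w, hw, hw1⟩ := exists_ne_one hne'
      refine haK ((hmax (y := K ⊔ zpowers a) ⟨sup_le hKQ (zpowers_le.2 (hEQ ha)), ?_⟩ le_sup_left)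
        (mem_sup_right (mem_zpowers a)))
      intro e
      refine hw1 (mem_bot.1 (e ▸ Subgroup.mem_inf.2 ⟨hw.1.1, ?_⟩))
      have hle : K ⊔ zpowers a ≤ centralizer ({w} : Set X) := by
        rw [sup_le_iff, zpowers_le]
        exact ⟨fun k hk => mem_centralizer_singleton_iff.2 (mem_centralizer_iff.1 hw.1.2 k hk),
          mem_centralizer_singleton_iff.2 (mem_centralizer_singleton_iff.1 hw.2).symm⟩
      exact mem_centralizer_iff.2 fun k hk => mem_centralizer_singleton_iff.1 (hle hk)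
    refine hKW (le_bot_iff.1 (hj.symm.le.trans ?_))
    unfold centralizerJoin
    exact iSup₂_le fun a ha => (hzero a ha.1 ha.2).le
  · -- `Q1` has no fixed point in `W`
    refine hKW (le_bot_iff.1 fun u hu => ?_)
    have h1 : u ∈ (V ⊓ centralizer (Q1 : Set X)) ⊓ ⁅V, Q1⁆ := Subgroup.mem_inf.2
      ⟨Subgroup.mem_inf.2 ⟨hWV hu.1, mem_centralizer_iff.2 fun x hx => mem_centralizer_iff.1 hu.2 x (hle hx)⟩, hu.1⟩
    rwa [(S.decomp hQ1).1] at h1

end Setup

end Cfsg.Lib.SThree
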