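/-
The configuration `(V Q) R`: `R` abelian acting nontrivially on an elementary `q`-group `Q`, which acts
without fixed points on `V`, is impossible under a fixed-point-free action of `S₃`.
-/
import Cfsg.Agent.SolvStruct.SThree.Roots

set_option linter.style.haveILetI false
set_option linter.unusedSectionVars false

namespace Cfsg.Lib.SThree

open Subgroup Cfsg.Lib.Coprime
open scoped commutatorElement

universe u

variable {X : Type u} [Group X] [Finite X]

theorem mem_zpowers_pow {x : X} {k : ℕ} (h : (orderOf x).Coprime k) : x ∈ zpowers (x ^ k) := by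
  have h1 : orderOf (x ^ k) = orderOf x := h.orderOf_pow
  have h2 : zpowers (x ^ k) = zpowers x := eq_of_le_of_card_ge (zpowers_le.2 (pow_mem (mem_zpowers x) k))
    (by rw [Nat.card_zpowers, Nat.card_zpowers, h1])
  rw [h2]; exact mem_zpowers x

theorem prime_coprime_six {r : ℕ} [Fact r.Prime] {R G0 : Subgroup X} (hR : IsPGroup r R) (hRG : R ≤ G0)
    (hne : R ≠ ⊥) (hc : (Nat.card G0).Coprime 6) : r.Coprime 6 :=
  Nat.Coprime.coprime_dvd_left (hR.card_eq_or_dvd.resolve_left fun e => hne (Subgroup.card_eq_one.1 e))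
    (Pair.coprime_mono hRG hc)

namespace Setup

variable {P : Pair X} {G0 : Subgroup X} {p q : ℕ} {V Q : Subgroup X}

theorem q_le_normalizer_root (S : Setup P G0 p q V Q) {K : Subgroup X} (hK : IsRoot V Q K) :
    Q ≤ normalizer (K : Set X) := fun w hw => by
  haveI := S.hQc
  exact mem_normalizer_of_conj_mem (fun z hz => by
      rwa [show w * z = z * w from congrArg Subtype.val (mul_comm' (⟨w, hw⟩ : Q) ⟨z, hK.1 hz⟩), mul_inv_cancel_right])
    (fun z hz => by
      rwa [mul_assoc, show z * w = w * z from congrArg Subtype.val (mul_comm' (⟨z, hK.1 hz⟩ : Q) ⟨w, hw⟩),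
        inv_mul_cancel_left])

theorem normalizer_fixed {K : Subgroup X} {g : X} (hgV : g ∈ normalizer (V : Set X))
    (hgK : g ∈ normalizer (K : Set X)) : g ∈ normalizer ((V ⊓ centralizer (K : Set X) : Subgroup X) : Set X) :=
  le_normalizer_inf (N := V) (M := centralizer (K : Set X)) (H := zpowers g) (zpowers_le.2 hgV)
    (zpowers_le.2 (Pair.normalizer_le_normalizer_centralizer K hgK)) (mem_zpowers g)

theorem normalizer_commutator {K : Subgroup X} {g : X} (hgV : g ∈ normalizer (V : Set X))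
    (hgK : g ∈ normalizer (K : Set X)) : g ∈ normalizer ((⁅V, K⁆ : Subgroup X) : Set X) := by
  rw [← conjMap_eq_self_iff, conjMap, map_commutator,
    show V.map (MulAut.conj g).toMonoidHom = V from conjMap_eq_self hgV,
    show K.map (MulAut.conj g).toMonoidHom = K from conjMap_eq_self hgK]

/-- a root not containing a given `s`-fixed element is normalised by `s` -/
theorem s_normalizes_of_fixed (S : Setup P G0 p q V Q) {K : Subgroup X} (hK : IsRoot V Q K) {x : X}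
    (hxQ : x ∈ Q) (hxs : P.s * x = x * P.s) (hxK : x ∉ K) : P.s ∈ normalizer (K : Set X) := by
  by_contra hsK
  obtain ⟨v, hv, hv1⟩ := exists_ne_one hK.2.1
  obtain ⟨hb, hc, hfix⟩ := S.orbit hK hsK hv
  set b := P.s * v * P.s⁻¹
  set c := P.s⁻¹ * v * P.s⁻¹⁻¹
  have hvV := (Subgroup.mem_inf.1 hv).1
  have hbV : b ∈ V := Pair.conj_mem S.hV.s hvV
  have hcV : c ∈ V := Pair.conj_mem (inv_mem S.hV.s) hvV
  have hcomm := Pair.comm_of_fixed S.hf S.hG S.hc (S.hQG hxQ) (S.hVG (mul_mem (mul_mem hvV hbV) hcV)) hxs hfix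
  have hn := normalizer_fixed (S.hQV hxQ) (S.q_le_normalizer_root hK hxQ)
  have hm := normalizer_commutator (S.hQV hxQ) (S.q_le_normalizer_root hK hxQ)
  have he : x * v * x⁻¹ * ((x * b * x⁻¹) * (x * c * x⁻¹)) = v * (b * c) := by
    calc x * v * x⁻¹ * ((x * b * x⁻¹) * (x * c * x⁻¹)) = x * (v * b * c) * x⁻¹ := by group
      _ = v * b * c := by rw [hcomm, mul_inv_cancel_right]
      _ = _ := mul_assoc _ _ _
  have h4 := eq_of_mul_eq_mul (S.decomp hK.1).1 (Pair.conj_mem hn hv) hv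
    (mul_mem (Pair.conj_mem hm hb) (Pair.conj_mem hm hc)) (mul_mem hb hc) he
  exact hxK (S.mem_root hK hxQ hv hv1 (mul_inv_eq_iff_eq_mul.1 h4))

end Setup

/-- the mixed configuration does not occur -/
theorem mixed {P : Pair X} {G0 : Subgroup X} {p q r : ℕ} {V Q R : Subgroup X} (S : Setup P G0 p q V Q)
    (hr : r.Prime) (hrq : r ≠ q) (hRG : R ≤ G0) (hR : P.Stable R) (hRc : IsMulCommutative R)
    (hRp : IsPGroup r R) (hRV : R ≤ normalizer (V : Set X)) (hRQ : R ≤ normalizer (Q : Set X))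
    (hQne : Q ≠ ⊥) (hQe : ∀ x ∈ Q, x ^ q = 1) (hQR : ⁅Q, R⁆ = Q) (hCQR : Q ⊓ centralizer (R : Set X) = ⊥)
    (hfaith : Q ⊓ centralizer (V : Set X) = ⊥)
    (hprop : ∀ R0 : Subgroup X, R0 ≤ R → R0 ≠ R → P.Stable R0 → R0 ≤ centralizer (Q : Set X)) : False := by
  classical
  haveI := Fact.mk hr
  haveI := Fact.mk S.hq
  haveI := S.hQc
  haveI := hRc
  have hQnc : ¬ Q ≤ centralizer (V : Set X) := fun h => hQne (le_bot_iff.1 (hfaith ▸ le_inf le_rfl h))
  have hRne : R ≠ ⊥ := fun e => hQne (by rw [← hQR, e, commutator_bot_right])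
  by_cases hfixR : ∀ ρ ∈ R, P.s * ρ = ρ * P.s
  · -- `s` centralises `R`
    have hQ1 : ∀ x ∈ Q, P.s * x = x * P.s → x = 1 := fun x hx hxs => by
      have : x ∈ Q ⊓ centralizer (R : Set X) := Subgroup.mem_inf.2 ⟨hx, mem_centralizer_iff.2 fun ρ hρ =>
        Pair.comm_of_fixed S.hf S.hG S.hc (hRG hρ) (S.hQG hx) (hfixR ρ hρ) hxs⟩
      rw [hCQR] at this
      exact mem_bot.1 this
    obtain ⟨K, hK, hQK⟩ := S.exists_root hQe le_rfl hQnc
    have hsK := S.s_not_normalizes hK fun x hx hxs => by rw [hQ1 x hx hxs]; exact one_mem K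
    have hfixW : ∀ ρ ∈ R, ∀ v ∈ V ⊓ centralizer (K : Set X), ρ * v * ρ⁻¹ = v := by
      intro ρ hρ
      have hρV := hRV hρ
      have hρQ := hRQ hρ
      have hρs := hfixR ρ hρ
      -- `ρ` normalises `K`
      have hρK : ρ ∈ normalizer (K : Set X) := by
        obtain ⟨v, hv, hv1⟩ := Setup.exists_ne_one hK.2.1
        obtain ⟨hb, hc, hfix⟩ := S.orbit hK hsK hv
        set b := P.s * v * P.s⁻¹
        set c := P.s⁻¹ * v * P.s⁻¹⁻¹
        have hvV := (Subgroup.mem_inf.1 hv).1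
        have hbV : b ∈ V := Pair.conj_mem S.hV.s hvV
        have hcV : c ∈ V := Pair.conj_mem (inv_mem S.hV.s) hvV
        have hcomm := Pair.comm_of_fixed S.hf S.hG S.hc (hRG hρ) (S.hVG (mul_mem (mul_mem hvV hbV) hcV)) hρs hfix
        obtain ⟨g, hg, hgK⟩ : ∃ g, (g = ρ ∨ g = ρ * P.s ∨ g = ρ * P.s⁻¹) ∧ conjMap g K = K := by
          by_contra hne
          push Not at hne
          have hmove : ∀ g, (g = ρ ∨ g = ρ * P.s ∨ g = ρ * P.s⁻¹) → g * v * g⁻¹ ∈ ⁅V, K⁆ := fun g hg => by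
            have hgQ : g ∈ normalizer (Q : Set X) := by
              rcases hg with rfl | rfl | rfl
              exacts [hρQ, mul_mem hρQ S.hQ.s, mul_mem hρQ (inv_mem S.hQ.s)]
            have hgV : g ∈ normalizer (V : Set X) := by
              rcases hg with rfl | rfl | rfl
              exacts [hρV, mul_mem hρV S.hV.s, mul_mem hρV (inv_mem S.hV.s)]
            exact S.mem_commutator_of_ne hK (S.root_conj hK hgQ hgV) (hne g hg) (Setup.conj_fixed hgV hv)
          have h1 : v * b * c ∈ ⁅V, K⁆ := by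
            rw [show v * b * c = (ρ * v * ρ⁻¹) * (ρ * b * ρ⁻¹) * (ρ * c * ρ⁻¹) by
              rw [show (ρ * v * ρ⁻¹) * (ρ * b * ρ⁻¹) * (ρ * c * ρ⁻¹) = ρ * (v * b * c) * ρ⁻¹ by group,
                hcomm, mul_inv_cancel_right]]
            refine mul_mem (mul_mem (hmove _ (Or.inl rfl)) ?_) ?_
            · rw [show ρ * b * ρ⁻¹ = (ρ * P.s) * v * (ρ * P.s)⁻¹ by simp only [b]; group]
              exact hmove _ (Or.inr (Or.inl rfl))
            · rw [show ρ * c * ρ⁻¹ = (ρ * P.s⁻¹) * v * (ρ * P.s⁻¹)⁻¹ by simp only [c]; group]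
              exact hmove _ (Or.inr (Or.inr rfl))
          have h2 := mul_mem (mul_mem h1 (inv_mem hc)) (inv_mem hb)
          rw [mul_inv_cancel_right, mul_inv_cancel_right] at h2
          have h3 : v ∈ (V ⊓ centralizer (K : Set X)) ⊓ ⁅V, K⁆ := Subgroup.mem_inf.2 ⟨hv, h2⟩
          rw [(S.decomp hK.1).1, mem_bot] at h3
          exact hv1 h3
        have hgn := conjMap_eq_self_iff.1 hgK
        have hcube : g ^ 3 = ρ ^ 3 := by
          rcases hg with rfl | rfl | rfl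
          · rfl
          · rw [(show Commute ρ P.s from hρs.symm).mul_pow, P.hs, mul_one]
          · rw [(show Commute ρ P.s from hρs.symm).inv_right.mul_pow, inv_pow, P.hs, inv_one, mul_one]
        have h3 : (orderOf ρ).Coprime 3 := by
          have h6 : (orderOf ρ).Coprime 6 := Nat.Coprime.coprime_dvd_left
            (by rw [← Subgroup.orderOf_mk ρ hρ]; exact orderOf_dvd_natCard _) (Pair.coprime_mono hRG S.hc)
          exact Nat.Coprime.coprime_dvd_right (by norm_num) h6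
        exact (zpowers_le.2 (hcube ▸ pow_mem hgn 3 : ρ ^ 3 ∈ normalizer (K : Set X))) (mem_zpowers_pow h3)
      intro v hv
      obtain ⟨hb, hc, hfix⟩ := S.orbit hK hsK hv
      set b := P.s * v * P.s⁻¹
      set c := P.s⁻¹ * v * P.s⁻¹⁻¹
      have hvV := (Subgroup.mem_inf.1 hv).1
      have hbV : b ∈ V := Pair.conj_mem S.hV.s hvV
      have hcV : c ∈ V := Pair.conj_mem (inv_mem S.hV.s) hvV
      have hcomm := Pair.comm_of_fixed S.hf S.hG S.hc (hRG hρ) (S.hVG (mul_mem (mul_mem hvV hbV) hcV)) hρs hfix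
      have hm := Setup.normalizer_commutator hρV hρK
      exact eq_of_mul_eq_mul (S.decomp hK.1).1 (Pair.conj_mem (Setup.normalizer_fixed hρV hρK) hv) hv
        (mul_mem (Pair.conj_mem hm hb) (Pair.conj_mem hm hc)) (mul_mem hb hc) (by
          calc ρ * v * ρ⁻¹ * ((ρ * b * ρ⁻¹) * (ρ * c * ρ⁻¹)) = ρ * (v * b * c) * ρ⁻¹ := by group
            _ = v * b * c := by rw [hcomm, mul_inv_cancel_right]
            _ = _ := mul_assoc _ _ _)
    refine hQK (hQR.symm.le.trans ?_)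
    rw [commutator_le]
    intro x hx ρ hρ
    obtain ⟨v, hv, hv1⟩ := Setup.exists_ne_one hK.2.1
    refine S.mem_root hK (hQR.le (commutator_mem_commutator hx hρ)) hv hv1 ?_
    have h1 : x⁻¹ * v * x ∈ V ⊓ centralizer (K : Set X) := by
      have := Pair.conj_mem (inv_mem (Setup.normalizer_fixed (S.hQV hx) (S.q_le_normalizer_root hK hx))) hv
      rwa [inv_inv] at this
    have h2 := hfixW ρ hρ _ h1
    have h3 : ρ⁻¹ * v * ρ = v := by
      have := hfixW ρ⁻¹ (inv_mem hρ) v hv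
      rwa [inv_inv] at this
    calc ⁅x, ρ⁆ * v = x * (ρ * (x⁻¹ * (ρ⁻¹ * v * ρ) * x) * ρ⁻¹) * x⁻¹ * ⁅x, ρ⁆ := by
          simp only [commutatorElement_def]; group
      _ = v * ⁅x, ρ⁆ := by rw [h3, h2]; group
  -- the fixed points of `s` in `R` centralise `Q`
  have hR0c : ∀ ρ ∈ R, P.s * ρ = ρ * P.s → ρ ∈ centralizer (Q : Set X) := by
    intro ρ hρ hρs
    refine hprop (R ⊓ centralizer (zpowers P.s : Set X)) inf_le_left (fun e => hfixR fun ρ' hρ' =>
      Pair.mem_centralizer_s.1 (Subgroup.mem_inf.1 (e.ge hρ')).2) (hR.inf Pair.stable_centralizer_s) ?_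
    exact Subgroup.mem_inf.2 ⟨hρ, Pair.mem_centralizer_s.2 hρs⟩
  have hR6 := prime_coprime_six hRp hRG hRne S.hc
  have hq6 := S.q6 hQne
  -- `s` has fixed points on `Q`
  obtain ⟨x0, hx0, hx01, hx0s⟩ : ∃ x ∈ Q, x ≠ 1 ∧ P.s * x = x * P.s := by
    by_contra hc
    push Not at hc
    have hle := Pair.commutator_le_centralizer (P := P) hr hRp S.hQp hR6 hq6 hrq hR.s S.hQ.s hRQ
      fun u hu hus => by_contra fun h => hc u hu h hus
    refine hQne (le_bot_iff.1 (hQR.symm.le.trans (le_of_eq ?_)))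
    rw [commutator_eq_bot_iff_le_centralizer, le_centralizer_iff,
      ← commutator_sup_centralizer (zpowers_le.2 hR.s) (Pair.coprime_s (Pair.coprime_mono hRG S.hc))
        (Or.inl Pair.isSolvable_s)]
    exact sup_le hle fun ρ hρ => hR0c ρ hρ.1 (Pair.mem_centralizer_s.1 hρ.2)
  obtain ⟨K, hK, hxK⟩ := S.exists_root hQe (Q1 := zpowers x0) (zpowers_le.2 hx0) (fun h => hx01 (by
    have : x0 ∈ Q ⊓ centralizer (V : Set X) := Subgroup.mem_inf.2 ⟨hx0, h (mem_zpowers x0)⟩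
    rw [hfaith] at this; exact mem_bot.1 this))
  rw [zpowers_le] at hxK
  have hsK := S.s_normalizes_of_fixed hK hx0 hx0s hxK
  have hcomm : ∀ a ∈ Q, ∀ b ∈ Q, a * b = b * a := fun a ha b hb =>
    congrArg Subtype.val (mul_comm' (⟨a, ha⟩ : Q) ⟨b, hb⟩)
  have hcommR : ∀ a ∈ R, ∀ b ∈ R, a * b = b * a := fun a ha b hb =>
    congrArg Subtype.val (mul_comm' (⟨a, ha⟩ : R) ⟨b, hb⟩)
  -- some element of `R` moves `K`
  obtain ⟨ρ, hρ, hρK⟩ : ∃ ρ ∈ R, ρ ∉ normalizer (K : Set X) := by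
    by_contra hc
    push Not at hc
    -- the elements fixing `x0` modulo `K`
    let S0 : Subgroup X :=
      { carrier := {g | g ∈ normalizer (K : Set X) ∧ g * x0 * g⁻¹ * x0⁻¹ ∈ K}
        one_mem' := ⟨one_mem _, by simp⟩
        mul_mem' := by
          rintro a b ⟨ha, ha'⟩ ⟨hb, hb'⟩
          refine ⟨mul_mem ha hb, ?_⟩
          have e : a * b * x0 * (a * b)⁻¹ * x0⁻¹ = (a * (b * x0 * b⁻¹ * x0⁻¹) * a⁻¹) * (a * x0 * a⁻¹ * x0⁻¹) := by
            group
          rw [e]; exact mul_mem (Pair.conj_mem ha hb') ha'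
        inv_mem' := by
          rintro a ⟨ha, ha'⟩
          refine ⟨inv_mem ha, ?_⟩
          have e : a⁻¹ * x0 * a⁻¹⁻¹ * x0⁻¹ = a⁻¹ * (a * x0 * a⁻¹ * x0⁻¹)⁻¹ * a⁻¹⁻¹ := by group
          rw [e]; exact Pair.conj_mem (inv_mem ha) (inv_mem ha') }
    have hS0 : R ≤ S0 := by
      rw [← commutator_sup_centralizer (zpowers_le.2 hR.s) (Pair.coprime_s (Pair.coprime_mono hRG S.hc))
        (Or.inl Pair.isSolvable_s)]
      refine sup_le ?_ fun g hg => ?_
      · rw [commutator_le]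
        intro g hg z hz
        obtain ⟨i, rfl⟩ := hz
        have hgK := hc g hg
        have hsi : P.s ^ i ∈ normalizer (K : Set X) := zpow_mem hsK i
        have hg' : P.s ^ i * g * (P.s ^ i)⁻¹ ∈ R := Pair.conj_mem (zpow_mem hR.s i) hg
        have hsx : P.s ^ i * x0 * (P.s ^ i)⁻¹ = x0 := by
          rw [((show Commute P.s x0 from hx0s).zpow_left i).eq, mul_inv_cancel_right]
        -- write the image of `x0` as a power of `x0` times an element of `K`
        obtain ⟨k, hk, y, hy, hky⟩ := (mem_sup_of_le_normalizer (zpowers_le.2 (S.q_le_normalizer_root hK hx0))).1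
          ((hK.2.2 x0 hx0 hxK).symm ▸ Pair.conj_mem (hRQ hg) hx0 : g * x0 * g⁻¹ ∈ K ⊔ zpowers x0)
        obtain ⟨a, rfl⟩ := hy
        have h1 : (P.s ^ i * g * (P.s ^ i)⁻¹) * x0 * (P.s ^ i * g * (P.s ^ i)⁻¹)⁻¹ =
            (P.s ^ i * k * (P.s ^ i)⁻¹) * x0 ^ a := by
          calc (P.s ^ i * g * (P.s ^ i)⁻¹) * x0 * (P.s ^ i * g * (P.s ^ i)⁻¹)⁻¹ =
              P.s ^ i * g * ((P.s ^ i)⁻¹ * x0 * P.s ^ i) * g⁻¹ * (P.s ^ i)⁻¹ := by group
            _ = P.s ^ i * g * x0 * g⁻¹ * (P.s ^ i)⁻¹ := by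
              rw [show (P.s ^ i)⁻¹ * x0 * P.s ^ i = x0 by
                conv_lhs => rw [← hsx]
                group]
            _ = P.s ^ i * (k * x0 ^ a) * (P.s ^ i)⁻¹ := by rw [hky]; group
            _ = (P.s ^ i * k * (P.s ^ i)⁻¹) * (P.s ^ i * x0 * (P.s ^ i)⁻¹) ^ a := by rw [conj_zpow]; group
            _ = _ := by rw [hsx]
        -- both images agree modulo `K`
        set g' := P.s ^ i * g * (P.s ^ i)⁻¹
        have h2 : (g * x0 * g⁻¹)⁻¹ * (g' * x0 * g'⁻¹) ∈ K := by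
          rw [h1, ← hky, mul_inv_rev, show (x0 ^ a)⁻¹ * k⁻¹ * (P.s ^ i * k * (P.s ^ i)⁻¹ * x0 ^ a) =
            (x0 ^ a)⁻¹ * (k⁻¹ * (P.s ^ i * k * (P.s ^ i)⁻¹)) * (x0 ^ a)⁻¹⁻¹ by group]
          exact Pair.conj_mem (inv_mem (S.q_le_normalizer_root hK (zpow_mem hx0 a)))
            (mul_mem (inv_mem hk) (Pair.conj_mem hsi hk))
        have h3 : g'⁻¹ * g ∈ S0 := by
          refine ⟨mul_mem (inv_mem (hc _ hg')) hgK, ?_⟩
          have h4 := inv_mem (Pair.conj_mem (inv_mem (hc _ hg')) h2)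
          have h5 := Pair.conj_mem (S.q_le_normalizer_root hK hx0) h4
          convert h5 using 1
          group
        have h6 : ⁅g, P.s ^ i⁆ = g'⁻¹ * g := by
          rw [commutatorElement_def, ← hcommR g hg g'⁻¹ (inv_mem hg')]
          simp only [g']; group
        show ⁅g, P.s ^ i⁆ ∈ S0
        rw [h6]; exact h3
      · refine ⟨hc g hg.1, ?_⟩
        rw [← mem_centralizer_iff.1 (hR0c g hg.1 (Pair.mem_centralizer_s.1 hg.2)) x0 hx0, mul_inv_cancel_right,
          mul_inv_cancel]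
        exact one_mem K
    refine S.root_ne_top hK (le_antisymm hK.1 (hQR.symm.le.trans ?_))
    rw [commutator_le]
    intro y hy g hg
    obtain ⟨k, hk, z, hz, rfl⟩ := (mem_sup_of_le_normalizer (zpowers_le.2 (S.q_le_normalizer_root hK hx0))).1
      ((hK.2.2 x0 hx0 hxK).symm ▸ hy : y ∈ K ⊔ zpowers x0)
    obtain ⟨a, rfl⟩ := hz
    obtain ⟨hgn, hgx⟩ := hS0 hg
    set c := g * x0 * g⁻¹ * x0⁻¹
    have e1 : g * x0 ^ a * g⁻¹ = c ^ a * x0 ^ a := by
      rw [← conj_zpow, show g * x0 * g⁻¹ = c * x0 by simp only [c]; group]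
      exact (show Commute c x0 from hcomm _ (hK.1 hgx) x0 hx0).mul_zpow a
    show ⁅k * x0 ^ a, g⁆ ∈ K
    rw [commutatorElement_def, show k * x0 ^ a * g * (k * x0 ^ a)⁻¹ * g⁻¹ =
      k * x0 ^ a * (g * x0 ^ a * g⁻¹)⁻¹ * (g * k * g⁻¹)⁻¹ by group, e1, mul_inv_rev, ← mul_assoc,
      mul_inv_cancel_right]
    exact mul_mem (mul_mem hk (inv_mem (zpow_mem hgx a))) (inv_mem (Pair.conj_mem hgn hk))
  -- conjugates of `K` fixed by `s` are only `K`
  have hkey : ∀ g ∈ R, P.s ∈ normalizer (conjMap g K : Set X) → g ∈ normalizer (K : Set X) := by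
    intro g hg hsg
    set RK := R ⊓ normalizer (K : Set X)
    have hsRK : P.s ∈ normalizer (RK : Set X) := le_normalizer_inf (N := R) (M := normalizer (K : Set X))
      (H := zpowers P.s) (zpowers_le.2 hR.s) (zpowers_le.2 (le_normalizer hsK)) (mem_zpowers _)
    have h1 : g⁻¹ * (P.s * g * P.s⁻¹) ∈ RK := by
      refine Subgroup.mem_inf.2 ⟨mul_mem (inv_mem hg) (Pair.conj_mem hR.s hg), conjMap_eq_self_iff.1 ?_⟩
      rw [← conjMap_mul, ← conjMap_mul, ← conjMap_mul, conjMap_eq_self (inv_mem hsK), conjMap_eq_self hsg,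
        conjMap_inv_conjMap]
    obtain ⟨d, hd, hfix⟩ := Pair.exists_fixed_s (Pair.coprime_mono (inf_le_left.trans hRG) S.hc) hsRK h1
    have h2 : g * d ∈ normalizer (K : Set X) := by
      refine mem_normalizer_iff.2 fun z => ?_
      have hc := hR0c _ (mul_mem hg (Subgroup.mem_inf.1 hd).1) hfix
      constructor
      · intro hz
        rwa [← mem_centralizer_iff.1 hc z (hK.1 hz), mul_inv_cancel_right]
      · intro hz
        have h' : z = g * d * z * (g * d)⁻¹ := by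
          have h3 := mem_centralizer_iff.1 hc _ (hK.1 hz)
          calc z = (g * d)⁻¹ * ((g * d * z * (g * d)⁻¹) * (g * d)) := by group
            _ = (g * d)⁻¹ * ((g * d) * (g * d * z * (g * d)⁻¹)) := by rw [h3]
            _ = _ := by group
        rwa [h']
    have := mul_mem h2 (inv_mem (Subgroup.mem_inf.1 hd).2)
    rwa [mul_inv_cancel_right] at this
  have hρQ := hRQ hρ
  have hρV := hRV hρ
  set K' := conjMap ρ K
  have hK' : IsRoot V Q K' := S.root_conj hK hρQ hρV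
  have hsK' : P.s ∉ normalizer (K' : Set X) := fun h => hρK (hkey ρ hρ h)
  obtain ⟨D, hDs, hDg, SD, hDK', hDinv⟩ := S.exists_twist hK' hsK'
  have hDR : D.t ∈ normalizer (R : Set X) := by
    have : D.Stable R := by unfold Pair.Stable; rw [hDg]; exact hR
    exact this.t
  set ρ' := D.t * ρ * D.t⁻¹
  have hρ' : ρ' ∈ R := Pair.conj_mem hDR hρ
  have hx0t : D.t * x0 * D.t⁻¹ = x0⁻¹ := Pair.inverted SD.hf SD.hG SD.hc (S.hQG hx0) (by rw [hDs]; exact hx0s)
  set K'' := conjMap D.t K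
  have hg : ρ'⁻¹ * ρ ∈ normalizer (K : Set X) := by
    refine hkey _ (mul_mem (inv_mem hρ') hρ) ?_
    have e : conjMap (ρ'⁻¹ * ρ) K = K'' := by
      have h1 : K' = conjMap ρ' K'' := by
        rw [show K'' = conjMap D.t K from rfl, conjMap_mul, show ρ' * D.t = D.t * ρ by simp only [ρ']; group,
          ← conjMap_mul]
        exact (conjMap_eq_self hDK').symm
      rw [← conjMap_mul]
      show conjMap ρ'⁻¹ K' = K''
      rw [h1, conjMap_inv_conjMap]
    rw [e]
    refine S.s_normalizes_of_fixed (S.root_conj hK SD.hQ.t SD.hV.t) hx0 hx0s fun hmem => hxK ?_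
    have h2 := inv_mem hmem
    rw [← hx0t, mem_conjMap] at h2
    simpa [mul_assoc] using h2
  set g1 := ρ⁻¹ * ρ'
  have hg1K : g1 ∈ normalizer (K : Set X) := by
    have h := inv_mem hg
    rwa [mul_inv_rev, inv_inv] at h
  have hg1R : g1 ∈ R := mul_mem (inv_mem hρ) hρ'
  -- the image of `x0`
  set y := ρ * x0 * ρ⁻¹
  have hy : y ∈ Q := Pair.conj_mem hρQ hx0
  have h7 : y⁻¹ * (D.t * y * D.t⁻¹) ∈ K' := by
    obtain ⟨u, hu, hu1⟩ := Setup.exists_ne_one hK'.2.1
    refine S.mem_root hK' (mul_mem (inv_mem hy) (Pair.conj_mem SD.hQ.t hy)) hu hu1 ?_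
    have h8 := hDinv _ (Pair.conj_mem (Setup.normalizer_fixed (S.hQV hy) (S.q_le_normalizer_root hK' hy)) hu)
    have h9 := hDinv u hu
    have h10 : (D.t * y * D.t⁻¹) * u * (D.t * y * D.t⁻¹)⁻¹ = y * u * y⁻¹ := by
      have e : (D.t * y * D.t⁻¹) * (D.t * u * D.t⁻¹) * (D.t * y * D.t⁻¹)⁻¹ = D.t * (y * u * y⁻¹) * D.t⁻¹ := by group
      rw [h9, h8] at e
      apply inv_injective
      rw [← e]; group
    calc y⁻¹ * (D.t * y * D.t⁻¹) * u
        = y⁻¹ * ((D.t * y * D.t⁻¹) * u * (D.t * y * D.t⁻¹)⁻¹) * (D.t * y * D.t⁻¹) := by group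
      _ = u * (y⁻¹ * (D.t * y * D.t⁻¹)) := by rw [h10]; group
  have h11 : g1 * x0 * g1⁻¹ * x0 ∈ K := by
    have e1 : D.t * y * D.t⁻¹ = ρ' * x0⁻¹ * ρ'⁻¹ := by
      rw [← hx0t]; simp only [y, ρ']; group
    rw [e1, mem_conjMap] at h7
    have h12 := inv_mem h7
    convert h12 using 1
    simp only [y, g1]
    group
  have hpow : ∀ n : ℕ, g1 ^ n * x0 * (g1 ^ n)⁻¹ * (x0 ^ ((-1 : ℤ) ^ n))⁻¹ ∈ K := by
    intro n
    induction n with
    | zero => simp
    | succ n ih =>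
      set e := g1 ^ n * x0 * (g1 ^ n)⁻¹ * (x0 ^ ((-1 : ℤ) ^ n))⁻¹
      set f := g1 * x0 * g1⁻¹ * x0
      have h13 : g1 ^ (n + 1) * x0 * (g1 ^ (n + 1))⁻¹ =
          (g1 * e * g1⁻¹) * (g1 * x0 * g1⁻¹) ^ ((-1 : ℤ) ^ n) := by
        rw [conj_zpow, pow_succ']; simp only [e]; group
      have h14 : (g1 * x0 * g1⁻¹) ^ ((-1 : ℤ) ^ n) = f ^ ((-1 : ℤ) ^ n) * x0 ^ ((-1 : ℤ) ^ (n + 1)) := by
        rw [show g1 * x0 * g1⁻¹ = f * x0⁻¹ by simp [f],
          (show Commute f x0⁻¹ from hcomm _ (hK.1 h11) _ (inv_mem hx0)).mul_zpow, inv_zpow', pow_succ,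
          mul_neg_one]
      rw [h13, h14, ← mul_assoc, mul_inv_cancel_right]
      exact mul_mem (Pair.conj_mem hg1K ih) (zpow_mem h11 _)
  have hodd : Odd (orderOf g1) := by
    have h6 : (orderOf g1).Coprime 6 := Nat.Coprime.coprime_dvd_left
      (by rw [← Subgroup.orderOf_mk g1 hg1R]; exact orderOf_dvd_natCard _) (Pair.coprime_mono hRG S.hc)
    exact Nat.Coprime.odd_of_right (Nat.Coprime.coprime_dvd_right (by norm_num : 2 ∣ 6) h6)
  have h15 := hpow (orderOf g1)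
  rw [pow_orderOf_eq_one, hodd.neg_one_pow, zpow_neg, zpow_one, inv_inv, one_mul, inv_one, mul_one,
    ← pow_two] at h15
  have hx0o : (orderOf x0).Coprime 2 := by
    rw [orderOf_eq_prime (hQe x0 hx0) hx01]
    exact Nat.Coprime.coprime_dvd_right (by norm_num : 2 ∣ 6) hq6
  exact hxK (zpowers_le.2 h15 (mem_zpowers_pow hx0o))

end Cfsg.Lib.SThree
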