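/-
A nonabelian `q`-group with abelian proper invariant subgroups cannot act faithfully and irreducibly
under a fixed-point-free action of `S₃`.
-/
import Cfsg.Agent.SolvStruct.SThree.Mixed

set_option linter.style.haveILetI false
set_option linter.unusedSectionVars false

namespace Cfsg.Lib.SThree

open Subgroup Cfsg.Lib.Coprime
open scoped commutatorElement

universe u

variable {X : Type u} [Group X] [Finite X]

theorem normalizer_le_normalizer_map_characteristic {H : Subgroup X} (K : Subgroup H) [K.Characteristic] :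
    normalizer (H : Set X) ≤ normalizer ((K.map H.subtype : Subgroup X) : Set X) := by
  intro g hg
  rw [← conjMap_eq_self_iff]
  have h := (characteristic_iff_map_eq.1 (inferInstance : K.Characteristic)) (H.normalizerMonoidHom ⟨g, hg⟩)
  have e : (MulAut.conj g).toMonoidHom.comp H.subtype =
      H.subtype.comp (H.normalizerMonoidHom ⟨g, hg⟩).toMonoidHom := by
    ext x; rfl
  rw [conjMap, map_map, e, ← map_map]
  exact congrArg (Subgroup.map H.subtype) h

theorem mem_centralizer_of_mem_of_comm {H : Subgroup X} {z : X} (hz : z ∈ centralizer (H : Set X)) {g : X}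
    (hg : g ∈ H) : g * z * g⁻¹ = z := by
  rw [mem_centralizer_iff.1 hz g hg, mul_inv_cancel_right]

/-- the `q`-group configuration does not occur -/
theorem pgroup {P : Pair X} {G0 : Subgroup X} {p q : ℕ} {V H : Subgroup X} (hp : p.Prime) (hq : q.Prime)
    (hqp : q ≠ p) (hG : P.Stable G0) (hf : P.Free G0) (hc : (Nat.card G0).Coprime 6) (hVG : V ≤ G0)
    (hHG : H ≤ G0) (hV : P.Stable V) (hH : P.Stable H) (hVc : IsMulCommutative V) (hVp : IsPGroup p V)
    (hHp : IsPGroup q H) (hHV : H ≤ normalizer (V : Set X)) (hnab : ¬ IsMulCommutative H)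
    (hprop : ∀ L : Subgroup X, L ≤ H → L ≠ H → P.Stable L → IsMulCommutative L)
    (hirr : ∀ M : Subgroup X, M ≤ H → M ≠ ⊥ → P.Stable M → H ≤ normalizer (M : Set X) →
      V ⊓ centralizer (M : Set X) = ⊥)
    (hfaith : H ⊓ centralizer (V : Set X) = ⊥) : False := by
  classical
  haveI := Fact.mk hp
  haveI := Fact.mk hq
  haveI : Group.IsNilpotent H := hHp.isNilpotent
  have hVne : V ≠ ⊥ := fun e => hnab ⟨⟨fun a b => Subtype.ext (by
    have h : ∀ x ∈ H, x = 1 := fun x hx => by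
      have : x ∈ H ⊓ centralizer (V : Set X) := Subgroup.mem_inf.2
        ⟨hx, mem_centralizer_iff.2 fun v hv => by
          rw [e, SetLike.mem_coe, mem_bot] at hv; simp [hv]⟩
      rw [hfaith] at this; exact mem_bot.1 this
    rw [show a = 1 from Subtype.ext (h a a.2), one_mul, mul_one])⟩⟩
  have hHne : H ≠ ⊥ := fun e => hnab ⟨⟨fun a b => by
    have : ∀ x : H, x = 1 := fun x => Subtype.ext (mem_bot.1 (e.le x.2))
    rw [this a, this b]⟩⟩
  have hq6 := prime_coprime_six hHp hHG hHne hc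
  have hp6 := prime_coprime_six hVp hVG hVne hc
  have hord2 : ∀ x ∈ H, (orderOf x).Coprime 2 ∧ (orderOf x).Coprime 6 := fun x hx => by
    have h6 : (orderOf x).Coprime 6 := Nat.Coprime.coprime_dvd_left
      (by rw [← Subgroup.orderOf_mk x hx]; exact orderOf_dvd_natCard _) (Pair.coprime_mono hHG hc)
    exact ⟨Nat.Coprime.coprime_dvd_right (by norm_num : 2 ∣ 6) h6, h6⟩
  have hsq : ∀ (L : Subgroup X), ∀ x ∈ H, x ^ 2 ∈ L → x ∈ L := fun L x hx h =>
    zpowers_le.2 h (mem_zpowers_pow (hord2 x hx).1)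
  -- the central subgroup `Z`
  have hHcomm : ∀ a ∈ H, ∀ b ∈ H, ⁅a, b⁆ ∈ H := fun a ha b hb =>
    mul_mem (mul_mem (mul_mem ha hb) (inv_mem ha)) (inv_mem hb)
  let Z : Subgroup X :=
    { carrier := {x | x ∈ ⁅H, H⁆ ∧ x ∈ centralizer (H : Set X) ∧ x ^ q = 1}
      one_mem' := ⟨one_mem _, one_mem _, one_pow _⟩
      mul_mem' := by
        rintro a b ⟨ha, ha', ha''⟩ ⟨hb, hb', hb''⟩
        refine ⟨mul_mem ha hb, mul_mem ha' hb', ?_⟩
        have hcm : Commute a b := (mem_centralizer_iff.1 hb' a (commutator_le_self H ha))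
        rw [hcm.mul_pow, ha'', hb'', one_mul]
      inv_mem' := by
        rintro a ⟨ha, ha', ha''⟩
        exact ⟨inv_mem ha, inv_mem ha', by rw [inv_pow, ha'', inv_one]⟩ }
  have hZH : Z ≤ H := fun x hx => commutator_le_self H hx.1
  have hHZ : H ≤ normalizer (Z : Set X) := fun g hg =>
    mem_normalizer_of_conj_mem (fun z hz => by rwa [mem_centralizer_of_mem_of_comm hz.2.1 hg])
      (fun z hz => by
        have := mem_centralizer_of_mem_of_comm hz.2.1 (inv_mem hg)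
        rw [inv_inv] at this
        rwa [this])
  have hZs : P.Stable Z := by
    intro g hg
    have hgH := hH hg
    have key : ∀ g ∈ normalizer (H : Set X), ∀ z ∈ Z, g * z * g⁻¹ ∈ Z := by
      intro g hg z hz
      refine ⟨?_, Pair.conj_mem (Pair.normalizer_le_normalizer_centralizer H hg) hz.2.1, ?_⟩
      · have e : ⁅H, H⁆.map (MulAut.conj g).toMonoidHom = ⁅H, H⁆ := by
          rw [map_commutator, show H.map (MulAut.conj g).toMonoidHom = H from conjMap_eq_self hg]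
        rw [← e]; exact ⟨z, hz.1, rfl⟩
      · rw [conj_pow, hz.2.2, mul_one, mul_inv_cancel]
    exact mem_normalizer_of_conj_mem (key g hgH) fun z hz => by
      have := key g⁻¹ (inv_mem hgH) z hz
      rwa [inv_inv] at this
  have hZne : Z ≠ ⊥ := by
    intro e
    have hc' : (commutator H) ≠ ⊥ := fun h => hnab ⟨⟨fun a b => by
      have := commutator_mem_commutator (mem_top a) (mem_top b)
      rw [← _root_.commutator_def, h, mem_bot, commutatorElement_eq_one_iff_mul_comm] at this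
      exact this⟩⟩
    obtain ⟨z, hz, hz1⟩ := Setup.exists_ne_one (Cfsg.Lib.Coprime.inf_center_ne_bot (commutator H) hc')
    obtain ⟨k, hk⟩ := IsPGroup.iff_orderOf.1 hHp z
    have hk1 : k ≠ 0 := by rintro rfl; rw [pow_zero, orderOf_eq_one_iff] at hk; exact hz1 hk
    set z' := z ^ q ^ (k - 1)
    have hz' : z' ^ q = 1 := by
      rw [← pow_mul, ← pow_succ, Nat.sub_add_cancel (Nat.pos_of_ne_zero hk1), ← hk, pow_orderOf_eq_one]
    have hzne : z' ≠ 1 := pow_ne_one_of_lt_orderOf (pow_ne_zero _ hq.ne_zero)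
      (hk ▸ Nat.pow_lt_pow_right hq.one_lt (Nat.sub_lt (Nat.pos_of_ne_zero hk1) one_pos))
    obtain ⟨h1, h2⟩ := Subgroup.mem_inf.1 (pow_mem hz (q ^ (k - 1)))
    have hmem : (z' : X) ∈ Z := by
      refine ⟨?_, mem_centralizer_iff.2 fun g hg => congrArg Subtype.val (mem_center_iff.1 h2 ⟨g, hg⟩),
        by rw [← Subgroup.coe_pow, hz', Subgroup.coe_one]⟩
      rw [← map_subtype_commutator]; exact ⟨_, h1, rfl⟩
    rw [e, mem_bot] at hmem
    exact hzne (Subtype.ext hmem)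
  have hZc : IsMulCommutative Z := ⟨⟨fun a b => by
    have h : (a : X) * b = b * a := mem_centralizer_iff.1 b.2.2.1 a (hZH a.2)
    exact Subtype.ext h⟩⟩
  have S : Setup P G0 p q V Z :=
    { hp := hp, hq := hq, hqp := hqp, hG := hG, hf := hf, hc := hc, hVG := hVG, hQG := hZH.trans hHG,
      hV := hV, hQ := hZs, hVc := hVc, hQc := hZc, hVp := hVp, hQp := hHp.to_le hZH,
      hQV := hZH.trans hHV, hCVQ := hirr Z hZH hZne hZs hHZ }
  have habC : ∀ L : Subgroup X, L ≤ H → (∀ x ∈ H, x ∈ L → P.s * x = x * P.s) → L = H → False :=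
    fun L _ hL e => hnab ⟨⟨fun a b => by
      have h : (a : X) * b = b * a := Pair.comm_of_fixed hf hG hc (hHG a.2) (hHG b.2)
        (hL a a.2 (e.ge a.2)) (hL b b.2 (e.ge b.2))
      exact Subtype.ext h⟩⟩
  have hZ1 : ∀ z ∈ Z, P.s * z = z * P.s → z = 1 := by
    by_contra hne
    push Not at hne
    obtain ⟨z, hz, hzs, hz1⟩ := hne
    set M := Z ⊓ centralizer (zpowers P.s : Set X)
    have hMH : H ≤ normalizer (M : Set X) := fun g hg =>
      mem_normalizer_of_conj_mem (fun y hy => by rwa [mem_centralizer_of_mem_of_comm hy.1.2.1 hg])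
        (fun y hy => by
          have := mem_centralizer_of_mem_of_comm hy.1.2.1 (inv_mem hg)
          rw [inv_inv] at this
          rwa [this])
    have hzM : z ∈ M := Subgroup.mem_inf.2 ⟨hz, Pair.mem_centralizer_s.2 hzs⟩
    have hM := hirr M (inf_le_left.trans hZH) (fun e => hz1 (mem_bot.1 (e.le hzM)))
      (hZs.inf Pair.stable_centralizer_s) hMH
    have hle := Pair.commutator_le_centralizer (P := P) hq hHp hVp hq6 hp6 hqp hH.s hV.s hHV fun v hv hvs => by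
      have : v ∈ V ⊓ centralizer (M : Set X) := Subgroup.mem_inf.2 ⟨hv, mem_centralizer_iff.2 fun y hy =>
        Pair.comm_of_fixed hf hG hc (hHG (hZH hy.1)) (hVG hv) (Pair.mem_centralizer_s.1 hy.2) hvs⟩
      rw [hM] at this
      exact mem_bot.1 this
    refine habC H le_rfl (fun x hx _ => ?_) rfl
    have h1 : ⁅H, zpowers P.s⁆ = ⊥ := le_bot_iff.1
      (hfaith ▸ le_inf (commutator_le_of_le_normalizer (zpowers_le.2 hH.s)) hle)
    have := commutator_mem_commutator hx (mem_zpowers P.s)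
    rw [h1, mem_bot, commutatorElement_eq_one_iff_mul_comm] at this
    exact this.symm
  -- a root and its involution
  obtain ⟨K, hK, hZK⟩ := S.exists_root (fun x hx => hx.2.2) le_rfl fun h => hZne
    (le_bot_iff.1 (hfaith ▸ le_inf hZH h))
  have hsK := S.s_not_normalizes hK fun x hx hxs => by rw [hZ1 x hx hxs]; exact one_mem K
  obtain ⟨D, hDs, hDg, SD, hDK, hDinv⟩ := S.exists_twist hK hsK
  have hDH : D.Stable H := by unfold Pair.Stable; rw [hDg]; exact hH
  set W := V ⊓ centralizer (K : Set X)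
  have hHW : H ≤ normalizer (W : Set X) := fun g hg =>
    Setup.normalizer_fixed (hHV hg) (mem_normalizer_of_conj_mem
      (fun y hy => by rwa [mem_centralizer_of_mem_of_comm (hK.1 hy).2.1 hg])
      (fun y hy => by
        have := mem_centralizer_of_mem_of_comm (hK.1 hy).2.1 (inv_mem hg)
        rw [inv_inv] at this
        rwa [this]))
  set T := H ⊓ centralizer (W : Set X)
  have hHT : H ≤ normalizer (T : Set X) :=
    le_normalizer_inf le_normalizer (hHW.trans (Pair.normalizer_le_normalizer_centralizer W))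
  have hTZ : ∀ z ∈ Z, z ∈ T → z ∈ K := fun z hz hzT => by
    obtain ⟨u, hu, hu1⟩ := Setup.exists_ne_one hK.2.1
    exact S.mem_root hK hz hu hu1 (mem_centralizer_iff.1 hzT.2 u hu).symm
  -- the involution acts trivially modulo `T`
  have htT : ∀ x ∈ H, x⁻¹ * (D.t * x * D.t⁻¹) ∈ T := by
    intro x hx
    refine Subgroup.mem_inf.2 ⟨mul_mem (inv_mem hx) (Pair.conj_mem hDH.t hx), mem_centralizer_iff.2 fun u hu => ?_⟩
    have h8 := hDinv _ (Pair.conj_mem (hHW hx) hu)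
    have h9 := hDinv u hu
    have h10 : (D.t * x * D.t⁻¹) * u * (D.t * x * D.t⁻¹)⁻¹ = x * u * x⁻¹ := by
      have e : (D.t * x * D.t⁻¹) * (D.t * u * D.t⁻¹) * (D.t * x * D.t⁻¹)⁻¹ = D.t * (x * u * x⁻¹) * D.t⁻¹ := by group
      rw [h9, h8] at e
      apply inv_injective
      rw [← e]; group
    symm
    calc x⁻¹ * (D.t * x * D.t⁻¹) * u = x⁻¹ * ((D.t * x * D.t⁻¹) * u * (D.t * x * D.t⁻¹)⁻¹) * (D.t * x * D.t⁻¹) := by group
      _ = u * (x⁻¹ * (D.t * x * D.t⁻¹)) := by rw [h10]; group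
  -- the Frattini subgroup
  set F := (frattini H).map H.subtype
  have hFH : F ≤ H := map_subtype_le _
  have hFn : normalizer (H : Set X) ≤ normalizer (F : Set X) := by
    haveI : (frattini H).Characteristic := frattini_characteristic
    exact normalizer_le_normalizer_map_characteristic _
  have hFs : D.Stable F := hDH.trans hFn
  have hHF : H ≤ normalizer (F : Set X) := le_normalizer.trans hFn
  have hcF : ∀ a ∈ H, ∀ b ∈ H, ⁅a, b⁆ ∈ F := fun a ha b hb => ⟨⁅(⟨a, ha⟩ : H), ⟨b, hb⟩⁆,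
    Cfsg.Lib.PGroups.commutator_le_frattini hHp (commutator_mem_commutator (mem_top _) (mem_top _)), rfl⟩
  have hpF : ∀ a ∈ H, a ^ q ∈ F := fun a ha => ⟨(⟨a, ha⟩ : H) ^ q, Cfsg.Lib.PGroups.pow_mem_frattini hHp _, rfl⟩
  have hgen : ∀ L : Subgroup X, L ≤ H → F ⊔ L = H → L = H := by
    intro L hL hsup
    have h : L.subgroupOf H ⊔ frattini H = ⊤ := by
      apply Subgroup.map_injective H.subtype_injective
      rw [Subgroup.map_sup, map_subgroupOf_eq_of_le hL, ← MonoidHom.range_eq_map, range_subtype, sup_comm]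
      exact hsup
    have h2 := frattini_nongenerating h
    rw [← map_subgroupOf_eq_of_le hL, h2, ← MonoidHom.range_eq_map, range_subtype]
  have hFne : F ≠ H := fun e => hHne (by
    have := hgen ⊥ bot_le (by rw [sup_bot_eq]; exact e)
    exact this.symm)
  haveI : IsMulCommutative F := hprop F hFH hFne (hH.trans hFn)
  have hswap : ∀ a ∈ H, ∀ b ∈ H, (a * b)⁻¹ * (b * a) ∈ F := fun a ha b hb => by
    have h := hcF b⁻¹ (inv_mem hb) a⁻¹ (inv_mem ha)
    rw [commutatorElement_def, inv_inv, inv_inv] at h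
    rwa [mul_inv_rev, mul_assoc b⁻¹, ← mul_assoc, ← mul_assoc] at *
  -- the norm of an element fixed modulo `F` by the involution
  have hnorm : ∀ e ∈ H, e⁻¹ * (D.t * e * D.t⁻¹) ∈ F →
      e * (D.s * e * D.s⁻¹) * (D.s⁻¹ * e * D.s⁻¹⁻¹) ∈ F ∧
      (D.s * e * D.s⁻¹)⁻¹ * (D.t * (D.s⁻¹ * e * D.s⁻¹⁻¹) * D.t⁻¹) ∈ F ∧
      (D.s⁻¹ * e * D.s⁻¹⁻¹)⁻¹ * (D.t * (D.s * e * D.s⁻¹) * D.t⁻¹) ∈ F := by
    intro e he hte
    set e1 := D.s * e * D.s⁻¹
    set e2 := D.s⁻¹ * e * D.s⁻¹⁻¹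
    have he1 : e1 ∈ H := Pair.conj_mem hDH.s he
    have he2 : e2 ∈ H := Pair.conj_mem (inv_mem hDH.s) he
    have h1 : e2⁻¹ * (D.t * e1 * D.t⁻¹) ∈ F := by
      have h := Pair.conj_mem (inv_mem hFs.s) hte
      have he' : D.t * e1 * D.t⁻¹ = D.s⁻¹ * (D.t * e * D.t⁻¹) * D.s⁻¹⁻¹ := by
        simp only [e1]
        calc D.t * (D.s * e * D.s⁻¹) * D.t⁻¹ = (D.t * D.s * D.t⁻¹) * (D.t * e * D.t⁻¹) * (D.t * D.s * D.t⁻¹)⁻¹ := by group
          _ = _ := by rw [D.conj_s]
      rw [he']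
      convert h using 1
      simp only [e2]
      group
    have h2 : e1⁻¹ * (D.t * e2 * D.t⁻¹) ∈ F := by
      have h := Pair.conj_mem hFs.s hte
      have he' : D.t * e2 * D.t⁻¹ = D.s * (D.t * e * D.t⁻¹) * D.s⁻¹ := by
        simp only [e2]
        calc D.t * (D.s⁻¹ * e * D.s⁻¹⁻¹) * D.t⁻¹ =
              (D.t * D.s * D.t⁻¹)⁻¹ * (D.t * e * D.t⁻¹) * (D.t * D.s * D.t⁻¹) := by group
          _ = _ := by rw [D.conj_s, inv_inv]
      rw [he']
      convert h using 1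
      simp only [e1]
      group
    refine ⟨Pair.mem_of_fixed_coset SD.hf hc hFs (hFH.trans hHG) (hHG (mul_mem (mul_mem he he1) he2)) ?_ ?_, h2, h1⟩
    · have e' : D.s * (e * e1 * e2) * D.s⁻¹ = e1 * e2 * e := by
        have a1 : D.s * e1 * D.s⁻¹ = e2 := by
          simp only [e1, e2]
          calc D.s * (D.s * e * D.s⁻¹) * D.s⁻¹ = (D.s * D.s) * e * (D.s * D.s)⁻¹ := by group
            _ = _ := by rw [D.ss]
        have a2 : D.s * e2 * D.s⁻¹ = e := by simp only [e2]; group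
        calc D.s * (e * e1 * e2) * D.s⁻¹ = (D.s * e * D.s⁻¹) * (D.s * e1 * D.s⁻¹) * (D.s * e2 * D.s⁻¹) := by group
          _ = _ := by rw [a1, a2]
      rw [e']
      have := hswap e he (e1 * e2) (mul_mem he1 he2)
      rwa [mul_assoc e e1 e2]
    · have e' : D.t * (e * e1 * e2) * D.t⁻¹ = (D.t * e * D.t⁻¹) * (D.t * e1 * D.t⁻¹) * (D.t * e2 * D.t⁻¹) := by group
      set f0 := e⁻¹ * (D.t * e * D.t⁻¹)
      set f1 := e2⁻¹ * (D.t * e1 * D.t⁻¹)
      set f2 := e1⁻¹ * (D.t * e2 * D.t⁻¹)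
      rw [e', show (D.t * e * D.t⁻¹) * (D.t * e1 * D.t⁻¹) * (D.t * e2 * D.t⁻¹) = (e * f0) * (e2 * f1) * (e1 * f2) by
        simp only [f0, f1, f2]; group]
      have e'' : (e * e1 * e2)⁻¹ * ((e * f0) * (e2 * f1) * (e1 * f2)) =
          ((e1 * e2)⁻¹ * f0 * (e1 * e2)⁻¹⁻¹) * ((e1 * e2)⁻¹ * (e2 * e1)) * (e1⁻¹ * f1 * e1⁻¹⁻¹) * f2 := by group
      rw [e'']
      exact mul_mem (mul_mem (mul_mem (Pair.conj_mem (inv_mem (hHF (mul_mem he1 he2))) hte)
        (hswap e1 he1 e2 he2)) (Pair.conj_mem (inv_mem (hHF he1)) h1)) h2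
  -- elements inverted modulo `F`
  by_cases hcen : F ≤ centralizer (H : Set X)
  · -- `F` is central: the commutator is bilinear
    have hcm : ∀ f ∈ F, ∀ g ∈ H, Commute f g := fun f hf' g hg =>
      (mem_centralizer_iff.1 (hcen hf') g hg).symm
    have hbi : ∀ a ∈ H, ∀ b ∈ H, ∀ c ∈ H, ⁅a * b, c⁆ = ⁅a, c⁆ * ⁅b, c⁆ := by
      intro a ha b hb c hc'
      rw [show ⁅a * b, c⁆ = (a * ⁅b, c⁆ * a⁻¹) * ⁅a, c⁆ by simp only [commutatorElement_def]; group,
        ← (hcm _ (hcF b hb c hc') a ha).eq, mul_inv_cancel_right, (hcm _ (hcF b hb c hc') _ (hHcomm a ha c hc')).eq]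
    have hbi' : ∀ a ∈ H, ∀ b ∈ H, ∀ c ∈ H, ⁅a, b * c⁆ = ⁅a, b⁆ * ⁅a, c⁆ := by
      intro a ha b hb c hc'
      rw [show ⁅a, b * c⁆ = ⁅a, b⁆ * (b * ⁅a, c⁆ * b⁻¹) by simp only [commutatorElement_def]; group,
        ← (hcm _ (hcF a ha c hc') b hb).eq, mul_inv_cancel_right]
    have hzero : ∀ f ∈ F, ∀ g ∈ H, ⁅f, g⁆ = 1 := fun f hf' g hg =>
      commutatorElement_eq_one_iff_mul_comm.2 (hcm f hf' g hg).eq
    have hpowl : ∀ a ∈ H, ∀ b ∈ H, ∀ n : ℕ, ⁅a ^ n, b⁆ = ⁅a, b⁆ ^ n := by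
      intro a ha b hb n
      induction n with
      | zero => simp
      | succ n ih => rw [pow_succ, hbi _ (pow_mem ha n) a ha b hb, ih, pow_succ]
    have hcZ : ∀ a ∈ H, ∀ b ∈ H, ⁅a, b⁆ ∈ Z := fun a ha b hb =>
      ⟨commutator_mem_commutator ha hb, hcen (hcF a ha b hb),
        by rw [← hpowl a ha b hb q]; exact hzero _ (hpF a ha) b hb⟩
    have hinvl : ∀ a ∈ H, ∀ b ∈ H, ⁅a⁻¹, b⁆ = ⁅a, b⁆⁻¹ := fun a ha b hb => by
      rw [eq_inv_iff_mul_eq_one, ← hbi _ (inv_mem ha) a ha b hb, inv_mul_cancel, commutatorElement_one_left]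
    have hinvr : ∀ a ∈ H, ∀ b ∈ H, ⁅a, b⁻¹⁆ = ⁅a, b⁆⁻¹ := fun a ha b hb => by
      rw [eq_inv_iff_mul_eq_one, ← hbi' a ha _ (inv_mem hb) b hb, inv_mul_cancel, commutatorElement_one_right]
    -- congruences
    have hTc : ∀ y ∈ T, ∀ b ∈ H, ⁅y, b⁆ ∈ K := fun y hy b hb => by
      refine hTZ _ (hcZ y hy.1 b hb) ?_
      rw [show ⁅y, b⁆ = y * (b * y⁻¹ * b⁻¹) by simp only [commutatorElement_def]; group]
      exact mul_mem hy (Pair.conj_mem (hHT hb) (inv_mem hy))
    have hUb : ∀ u ∈ H, u * (D.t * u * D.t⁻¹) ∈ F → ∀ b ∈ H, ⁅u, b⁆ ∈ K := by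
      intro u hu huF b hb
      have h1 := hTc _ (htT u hu) b hb
      set f := u * (D.t * u * D.t⁻¹)
      rw [show u⁻¹ * (D.t * u * D.t⁻¹) = u⁻¹ * u⁻¹ * f by simp only [f]; group,
        hbi _ (mul_mem (inv_mem hu) (inv_mem hu)) f (hFH huF) b hb, hzero f huF b hb, mul_one,
        hbi _ (inv_mem hu) _ (inv_mem hu) b hb, hinvl u hu b hb, ← mul_inv_rev, inv_mem_iff, ← pow_two] at h1
      exact hsq K _ (hHcomm u hu b hb) h1
    -- the twisted differences generate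
    let σ : X → X := fun x => D.s * x * D.s⁻¹
    have hσH : ∀ x ∈ H, σ x ∈ H := fun x hx => Pair.conj_mem hDH.s hx
    have hexp : ∀ a ∈ H, ∃ u ∈ H, u * (D.t * u * D.t⁻¹) ∈ F ∧
        ∀ b ∈ H, ⁅a, b⁆ ^ 6 * (⁅σ u, b⁆ ^ 2)⁻¹ ∈ K := by
      intro a ha
      set ta := D.t * a * D.t⁻¹
      have hta : ta ∈ H := Pair.conj_mem hDH.t ha
      set e := a * ta
      have he : e ∈ H := mul_mem ha hta
      have hte : e⁻¹ * (D.t * e * D.t⁻¹) ∈ F := by
        rw [show D.t * e * D.t⁻¹ = ta * (D.t * ta * D.t⁻¹) by simp only [e, ta]; group,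
          show D.t * ta * D.t⁻¹ = a by
            simp only [ta, D.t_inv]
            rw [show D.t * (D.t * a * D.t) * D.t = (D.t * D.t) * a * (D.t * D.t) by group, D.ht, one_mul, mul_one]]
        exact hswap a ha ta hta
      obtain ⟨hn, hf1, hf2⟩ := hnorm e he hte
      set e1 := D.s * e * D.s⁻¹
      set e2 := D.s⁻¹ * e * D.s⁻¹⁻¹
      have he1 : e1 ∈ H := Pair.conj_mem hDH.s he
      have he2 : e2 ∈ H := Pair.conj_mem (inv_mem hDH.s) he
      refine ⟨e2 * e1⁻¹, mul_mem he2 (inv_mem he1), ?_, fun b hb => ?_⟩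
      · have e' : D.t * (e2 * e1⁻¹) * D.t⁻¹ = (D.t * e2 * D.t⁻¹) * (D.t * e1 * D.t⁻¹)⁻¹ := by group
        set f1 := e1⁻¹ * (D.t * e2 * D.t⁻¹)
        set f2 := e2⁻¹ * (D.t * e1 * D.t⁻¹)
        rw [e', show (D.t * e2 * D.t⁻¹) * (D.t * e1 * D.t⁻¹)⁻¹ = (e1 * f1) * (e2 * f2)⁻¹ by
          simp only [f1, f2]; group]
        have h : e2 * e1⁻¹ * ((e1 * f1) * (e2 * f2)⁻¹) = e2 * (f1 * f2⁻¹) * e2⁻¹ := by group
        rw [h]
        exact Pair.conj_mem (hHF he2) (mul_mem hf1 (inv_mem hf2))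
      · set u := e2 * e1⁻¹
        have hu : u ∈ H := mul_mem he2 (inv_mem he1)
        have hue : u * (D.t * u * D.t⁻¹) ∈ F := by
          have e' : D.t * (e2 * e1⁻¹) * D.t⁻¹ = (D.t * e2 * D.t⁻¹) * (D.t * e1 * D.t⁻¹)⁻¹ := by group
          set f1 := e1⁻¹ * (D.t * e2 * D.t⁻¹)
          set f2 := e2⁻¹ * (D.t * e1 * D.t⁻¹)
          rw [e', show (D.t * e2 * D.t⁻¹) * (D.t * e1 * D.t⁻¹)⁻¹ = (e1 * f1) * (e2 * f2)⁻¹ by
            simp only [f1, f2]; group]
          have h : u * ((e1 * f1) * (e2 * f2)⁻¹) = e2 * (f1 * f2⁻¹) * e2⁻¹ := by simp only [u]; group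
          rw [h]
          exact Pair.conj_mem (hHF he2) (mul_mem hf1 (inv_mem hf2))
        have hσu : σ u = e * e2⁻¹ := by
          simp only [σ, u, e1, e2]
          calc D.s * (D.s⁻¹ * e * D.s⁻¹⁻¹ * (D.s * e * D.s⁻¹)⁻¹) * D.s⁻¹ =
              e * ((D.s * D.s) * e⁻¹ * (D.s * D.s)⁻¹) := by group
            _ = e * (D.s⁻¹ * e⁻¹ * D.s⁻¹⁻¹) := by rw [D.ss]
            _ = _ := by group
        -- commutators with `b`, an abelian group
        have hA : ⁅a, b⁆ ∈ Z := hcZ a ha b hb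
        have hE : ⁅e, b⁆ ∈ Z := hcZ e he b hb
        have hE1 : ⁅e1, b⁆ ∈ Z := hcZ e1 he1 b hb
        have hE2 : ⁅e2, b⁆ ∈ Z := hcZ e2 he2 b hb
        have k1 : ⁅e, b⁆ * ((⁅a, b⁆) ^ 2)⁻¹ ∈ K := by
          have h1 := hTc _ (htT a ha) b hb
          rw [hbi _ (inv_mem ha) _ hta b hb, hinvl a ha b hb] at h1
          rw [show e = a * ta from rfl, hbi a ha ta hta b hb, pow_two, mul_inv_rev]
          have hB : ⁅ta, b⁆ ∈ Z := hcZ ta hta b hb
          have hc1 : ⁅a, b⁆ * (⁅a, b⁆⁻¹ * ⁅ta, b⁆) = (⁅a, b⁆⁻¹ * ⁅ta, b⁆) * ⁅a, b⁆ :=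
            congrArg Subtype.val (mul_comm' (⟨_, hA⟩ : Z) ⟨_, mul_mem (inv_mem hA) hB⟩)
          have h2 : ⁅a, b⁆ * ⁅ta, b⁆ * (⁅a, b⁆⁻¹ * ⁅a, b⁆⁻¹) = ⁅a, b⁆⁻¹ * ⁅ta, b⁆ := by
            calc ⁅a, b⁆ * ⁅ta, b⁆ * (⁅a, b⁆⁻¹ * ⁅a, b⁆⁻¹)
                = ⁅a, b⁆ * (⁅a, b⁆ * (⁅a, b⁆⁻¹ * ⁅ta, b⁆)) * (⁅a, b⁆⁻¹ * ⁅a, b⁆⁻¹) := by group
              _ = ⁅a, b⁆ * ((⁅a, b⁆⁻¹ * ⁅ta, b⁆) * ⁅a, b⁆) * (⁅a, b⁆⁻¹ * ⁅a, b⁆⁻¹) := by rw [hc1]
              _ = (⁅a, b⁆ * (⁅a, b⁆⁻¹ * ⁅ta, b⁆)) * ⁅a, b⁆⁻¹ := by group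
              _ = _ := by rw [hc1]; group
          rw [h2]; exact h1
        have k2 : ⁅u, b⁆ ∈ K := hUb u hu hue b hb
        have k3 : ⁅e, b⁆ * ⁅e1, b⁆ * ⁅e2, b⁆ = 1 := by
          rw [← hbi e he e1 he1 b hb, ← hbi _ (mul_mem he he1) e2 he2 b hb, hzero _ hn b hb]
        rw [hσu, hbi e he _ (inv_mem he2) b hb, hinvl e2 he2 b hb]
        rw [show u = e2 * e1⁻¹ from rfl, hbi e2 he2 _ (inv_mem he1) b hb, hinvl e1 he1 b hb] at k2
        -- compute in the abelian group `Z`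
        let A : Z := ⟨_, hA⟩
        let E : Z := ⟨_, hE⟩
        let E1 : Z := ⟨_, hE1⟩
        let E2 : Z := ⟨_, hE2⟩
        letI : CommGroup Z := { (inferInstance : Group Z) with mul_comm := mul_comm' }
        have j1 : E * (A ^ 2)⁻¹ ∈ K.subgroupOf Z := k1
        have j2 : E2 * E1⁻¹ ∈ K.subgroupOf Z := k2
        have j3 : E * E1 * E2 = 1 := Subtype.ext k3
        have goal' : A ^ 6 * ((E * E2⁻¹) ^ 2)⁻¹ ∈ K.subgroupOf Z := by
          have hE1' : E1 = E⁻¹ * E2⁻¹ := by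
            rw [← mul_inv_rev, eq_inv_iff_mul_eq_one, mul_comm E2 E, ← j3]
            simp only [mul_comm, mul_assoc, mul_left_comm]
          have he : A ^ 6 * ((E * E2⁻¹) ^ 2)⁻¹ = ((E * (A ^ 2)⁻¹) ^ 3)⁻¹ * (E2 * E1⁻¹) := by
            rw [hE1']
            apply Additive.ofMul.injective
            simp only [ofMul_mul, ofMul_inv, ofMul_pow]
            abel
          rw [he]
          exact mul_mem (inv_mem (pow_mem j1 3)) j2
        exact goal'
    -- conclude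
    have hall : ∀ a ∈ H, ∀ b ∈ H, ⁅a, b⁆ ∈ K := by
      intro a ha b hb
      obtain ⟨u, hu, huF, hu'⟩ := hexp a ha
      obtain ⟨v, hv, hvF, hv'⟩ := hexp b hb
      have hsu : σ u ∈ H := hσH u hu
      have hsv : σ v ∈ H := hσH v hv
      have h1 : ⁅σ u, σ v⁆ ∈ K := by
        set z := ⁅u, v⁆
        have hz : z ∈ Z := hcZ u hu v hv
        have hzK : z ∈ K := hUb u hu huF v hv
        have htz : D.t * z * D.t⁻¹ = z := by
          set f := u * (D.t * u * D.t⁻¹)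
          set g := v * (D.t * v * D.t⁻¹)
          rw [show D.t * z * D.t⁻¹ = ⁅D.t * u * D.t⁻¹, D.t * v * D.t⁻¹⁆ by
              simp only [z, commutatorElement_def]; group,
            show D.t * u * D.t⁻¹ = u⁻¹ * f by simp only [f]; group,
            show D.t * v * D.t⁻¹ = v⁻¹ * g by simp only [g]; group,
            hbi _ (inv_mem hu) f (hFH huF) _ (mul_mem (inv_mem hv) (hFH hvF)),
            hzero f huF _ (mul_mem (inv_mem hv) (hFH hvF)), mul_one, hbi' _ (inv_mem hu) _ (inv_mem hv) g (hFH hvF),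
            hinvl u hu g (hFH hvF),
            show ⁅u, g⁆ = 1 from commutatorElement_eq_one_iff_mul_comm.2 (hcm g hvF u hu).eq.symm,
            inv_one, mul_one, hinvr _ (inv_mem hu) v hv, hinvl u hu v hv, inv_inv]
        set z1 := D.s * z * D.s⁻¹
        set z2 := D.s⁻¹ * z * D.s⁻¹⁻¹
        have hz1 : z1 ∈ Z := Pair.conj_mem SD.hQ.s hz
        have hz2 : z2 ∈ Z := Pair.conj_mem (inv_mem SD.hQ.s) hz
        have hcz : ∀ x ∈ Z, ∀ y ∈ Z, x * y = y * x := fun x hx y hy =>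
          congrArg Subtype.val (mul_comm' (⟨x, hx⟩ : Z) ⟨y, hy⟩)
        have t1 : D.t * z1 * D.t⁻¹ = z2 := by
          simp only [z1, z2]
          calc D.t * (D.s * z * D.s⁻¹) * D.t⁻¹ = (D.t * D.s * D.t⁻¹) * (D.t * z * D.t⁻¹) * (D.t * D.s * D.t⁻¹)⁻¹ := by group
            _ = _ := by rw [D.conj_s, htz]
        have t2 : D.t * z2 * D.t⁻¹ = z1 := by
          rw [← t1, D.t_inv, show D.t * (D.t * z1 * D.t) * D.t = (D.t * D.t) * z1 * (D.t * D.t) by group, D.ht,
            one_mul, mul_one]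
        have hprod : z * z1 * z2 = 1 := by
          refine SD.hf.eq_one (hHG (hZH (mul_mem (mul_mem hz hz1) hz2))) ?_ ?_
          · have a1 : D.s * z1 * D.s⁻¹ = z2 := by
              simp only [z1, z2]
              calc D.s * (D.s * z * D.s⁻¹) * D.s⁻¹ = (D.s * D.s) * z * (D.s * D.s)⁻¹ := by group
                _ = _ := by rw [D.ss]
            have a2 : D.s * z2 * D.s⁻¹ = z := by simp only [z2]; group
            calc D.s * (z * z1 * z2) = (D.s * z * D.s⁻¹) * (D.s * z1 * D.s⁻¹) * (D.s * z2 * D.s⁻¹) * D.s := by group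
              _ = z1 * z2 * z * D.s := by rw [a1, a2]
              _ = _ := by rw [← hcz z hz _ (mul_mem hz1 hz2), mul_assoc z z1 z2]
          · calc D.t * (z * z1 * z2) = (D.t * z * D.t⁻¹) * (D.t * z1 * D.t⁻¹) * (D.t * z2 * D.t⁻¹) * D.t := by group
              _ = z * z2 * z1 * D.t := by rw [htz, t1, t2]
              _ = _ := by rw [mul_assoc z z2 z1, hcz z2 hz2 z1 hz1, ← mul_assoc]
        have h5 : z1 * z2 ∈ K := by
          have e : z1 * z2 = z⁻¹ := eq_inv_of_mul_eq_one_right (by rw [← mul_assoc]; exact hprod)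
          rw [e]; exact inv_mem hzK
        have h6 : z1⁻¹ * z2 ∈ K := by
          have := hTZ _ (mul_mem (inv_mem hz1) (Pair.conj_mem SD.hQ.t hz1)) (htT z1 (hZH hz1))
          rwa [t1] at this
        have h7 := mul_mem h5 (inv_mem h6)
        rw [mul_inv_rev, inv_inv, mul_assoc, mul_inv_cancel_left, ← pow_two] at h7
        have h8 := hsq K z1 (hZH hz1) h7
        rw [show z1 = ⁅σ u, σ v⁆ by simp only [z1, z, σ, commutatorElement_def]; group] at h8
        exact h8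
      have h2 : ⁅σ u, b⁆ ^ 6 ∈ K := by
        have h := inv_mem (hv' (σ u) hsu)
        rw [mul_inv_rev, inv_inv, ← commutatorElement_inv (σ u) (σ v), inv_pow,
          ← commutatorElement_inv (σ u) b, inv_pow, inv_inv] at h
        have h' := mul_mem (pow_mem h1 2) h
        rwa [mul_inv_cancel_left] at h'
      have h3 : ⁅σ u, b⁆ ∈ K :=
        zpowers_le.2 h2 (mem_zpowers_pow (hord2 _ (hHcomm _ hsu b hb)).2)
      have h4 := mul_mem (hu' b hb) (pow_mem h3 2)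
      rw [inv_mul_cancel_right] at h4
      exact zpowers_le.2 h4 (mem_zpowers_pow (hord2 _ (hHcomm a ha b hb)).2)
    exact hZK fun z hz => (commutator_le.2 hall) hz.1
  · -- `F` is not central
    set C := H ⊓ centralizer (F : Set X)
    have hCH : C ≤ H := inf_le_left
    have hCne : C ≠ H := fun e => hcen fun f hf' => mem_centralizer_iff.2 fun h hh =>
      (mem_centralizer_iff.1 (e.ge hh).2 f hf').symm
    have hFC : F ≤ C := le_inf hFH fun f hf' => mem_centralizer_iff.2 fun g hg =>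
      congrArg Subtype.val (mul_comm' (⟨g, hg⟩ : F) ⟨f, hf'⟩)
    have hCs : D.Stable C := hDH.inf hFs.centralizer
    have hLC : ∀ L : Subgroup X, F ≤ L → L ≤ H → L ≠ H → D.Stable L → L ≤ C := fun L hFL hLH hne hL => by
      haveI := hprop L hLH hne (by unfold Pair.Stable at hL ⊢; rwa [hDg] at hL)
      exact le_inf hLH fun x hx => mem_centralizer_iff.2 fun f hf' =>
        congrArg Subtype.val (mul_comm' (⟨f, hFL hf'⟩ : L) ⟨x, hx⟩)
    have hHC : H ≤ normalizer (C : Set X) :=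
      le_normalizer_inf le_normalizer (hHF.trans (Pair.normalizer_le_normalizer_centralizer F))
    -- an element outside `C` fixed modulo `F` by the involution
    obtain ⟨e, he, heC, hte⟩ : ∃ e ∈ H, e ∉ C ∧ e⁻¹ * (D.t * e * D.t⁻¹) ∈ F := by
      by_contra hne
      push Not at hne
      have hinv : ∀ a ∈ H, a * (D.t * a * D.t⁻¹) ∈ C := by
        intro a ha
        by_contra hC
        set ta := D.t * a * D.t⁻¹
        have hta : ta ∈ H := Pair.conj_mem hDH.t ha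
        refine hne _ (mul_mem ha hta) hC ?_
        rw [show D.t * (a * ta) * D.t⁻¹ = ta * (D.t * ta * D.t⁻¹) by simp only [ta]; group,
          show D.t * ta * D.t⁻¹ = a by
            simp only [ta, D.t_inv]
            rw [show D.t * (D.t * a * D.t) * D.t = (D.t * D.t) * a * (D.t * D.t) by group, D.ht, one_mul, mul_one]]
        exact hswap a ha ta hta
      -- then `s` acts trivially on `H/C`
      have hsC : ∀ a ∈ H, a⁻¹ * (D.s * a * D.s⁻¹) ∈ C := by
        intro a ha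
        set ta := D.t * a * D.t⁻¹
        have hta : ta ∈ H := Pair.conj_mem hDH.t ha
        have h1 := hinv _ (Pair.conj_mem hDH.s ha)
        rw [show D.t * (D.s * a * D.s⁻¹) * D.t⁻¹ = D.s⁻¹ * ta * D.s⁻¹⁻¹ by
          calc D.t * (D.s * a * D.s⁻¹) * D.t⁻¹ = (D.t * D.s * D.t⁻¹) * ta * (D.t * D.s * D.t⁻¹)⁻¹ := by
                simp only [ta]; group
            _ = _ := by rw [D.conj_s]] at h1
        have h2 := Pair.conj_mem (inv_mem hCs.s) (hinv a ha)
        set a1 := D.s * a * D.s⁻¹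
        set a2 := D.s⁻¹ * a * D.s⁻¹⁻¹
        set T2 := D.s⁻¹ * ta * D.s⁻¹⁻¹
        have h2' : a2 * T2 ∈ C := by
          convert h2 using 1
          simp only [a2, T2, ta]; group
        have h3 := mul_mem h1 (inv_mem h2')
        rw [mul_inv_rev, mul_assoc, mul_inv_cancel_left] at h3
        -- `a1 ≡ a2` gives `a ≡ s a`
        have h4 := Pair.conj_mem hCs.s h3
        have h5 : D.s * (a1 * a2⁻¹) * D.s⁻¹ = a2 * a⁻¹ := by
          simp only [a1, a2]
          calc D.s * (D.s * a * D.s⁻¹ * (D.s⁻¹ * a * D.s⁻¹⁻¹)⁻¹) * D.s⁻¹ = ((D.s * D.s) * a * (D.s * D.s)⁻¹) * a⁻¹ := by group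
            _ = (D.s⁻¹ * a * D.s⁻¹⁻¹) * a⁻¹ := by rw [D.ss]
        rw [h5] at h4
        have h6 := mul_mem h3 h4
        rw [mul_assoc, inv_mul_cancel_left] at h6
        have := Pair.conj_mem (inv_mem (hHC ha)) h6
        rwa [inv_inv, ← mul_assoc, mul_assoc (a⁻¹ * a1), inv_mul_cancel, mul_one] at this
      set R0 := H ⊓ centralizer (zpowers D.s : Set X)
      have hR0 : R0 ≠ H := fun e => habC R0 inf_le_left (fun x _ hx => by
        have := Pair.mem_centralizer_s.1 (Subgroup.mem_inf.1 hx).2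
        rwa [hDs] at this) e
      have hL : F ⊔ R0 ≠ H := fun e => hR0 (hgen R0 inf_le_left e)
      have hR0C : R0 ≤ C := le_sup_right.trans (hLC _ le_sup_left (sup_le hFH inf_le_left) hL
        (hFs.sup (hDH.inf Pair.stable_centralizer_s)))
      refine hCne (le_antisymm hCH fun a ha => ?_)
      obtain ⟨d, hd, hfix⟩ := Pair.exists_fixed_s (P := D) (Pair.coprime_mono (hCH.trans hHG) hc) hCs.s (hsC a ha)
      have := mul_mem (hR0C (Subgroup.mem_inf.2 ⟨mul_mem ha (hCH hd), Pair.mem_centralizer_s.2 hfix⟩)) (inv_mem hd)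
      rwa [mul_inv_cancel_right] at this
    obtain ⟨hn, hf1, hf2⟩ := hnorm e he hte
    set e1 := D.s * e * D.s⁻¹
    set e2 := D.s⁻¹ * e * D.s⁻¹⁻¹
    have he1 : e1 ∈ H := Pair.conj_mem hDH.s he
    have he2 : e2 ∈ H := Pair.conj_mem (inv_mem hDH.s) he
    -- `H` is generated by `e`, `e1` and `F`
    set L := F ⊔ (zpowers e ⊔ zpowers e1)
    have heL : e ∈ L := mem_sup_right (mem_sup_left (mem_zpowers e))
    have he1L : e1 ∈ L := mem_sup_right (mem_sup_right (mem_zpowers e1))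
    have he2L : e2 ∈ L := by
      have := mul_mem (inv_mem (mul_mem heL he1L)) (mem_sup_left hn : e * e1 * e2 ∈ L)
      rwa [inv_mul_cancel_left] at this
    have hLs : D.Stable L := by
      have hclosed : ∀ g, g ∈ normalizer (F : Set X) → g * e * g⁻¹ ∈ L → g * e1 * g⁻¹ ∈ L →
          ∀ y ∈ L, g * y * g⁻¹ ∈ L := by
        intro g hgF h1 h2
        have : L ≤ L.comap (MulAut.conj g).toMonoidHom := sup_le (fun f hf' => mem_sup_left (Pair.conj_mem hgF hf'))
          (sup_le (zpowers_le.2 h1) (zpowers_le.2 h2))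
        exact fun y hy => this hy
      have hmemn : ∀ g, (∀ y ∈ L, g * y * g⁻¹ ∈ L) → g ∈ normalizer (L : Set X) := fun g hg => by
        rw [← conjMap_eq_self_iff]
        exact Cfsg.Lib.Coprime.eq_of_le_of_card_eq (fun y hy => by
          obtain ⟨x, hx, rfl⟩ := hy; exact hg x hx) (card_conjMap g L)
      refine Pair.stable_iff.2 ⟨hmemn _ (hclosed _ hFs.s (by exact he1L) ?_), hmemn _ (hclosed _ hFs.t ?_ ?_)⟩
      · have a1 : D.s * e1 * D.s⁻¹ = e2 := by
          simp only [e1, e2]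
          calc D.s * (D.s * e * D.s⁻¹) * D.s⁻¹ = (D.s * D.s) * e * (D.s * D.s)⁻¹ := by group
            _ = _ := by rw [D.ss]
        rw [a1]; exact he2L
      · have := mul_mem heL (mem_sup_left hte : e⁻¹ * (D.t * e * D.t⁻¹) ∈ L)
        rwa [mul_inv_cancel_left] at this
      · have := mul_mem he2L (mem_sup_left hf2 : e2⁻¹ * (D.t * e1 * D.t⁻¹) ∈ L)
        rwa [mul_inv_cancel_left] at this
    have hLH : L ≤ H := sup_le hFH (sup_le (zpowers_le.2 he) (zpowers_le.2 he1))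
    have hLtop : L = H := by
      by_contra hne
      exact heC (hLC L le_sup_left hLH hne hLs heL)
    -- so the quotient by `T` is cyclic
    set M := T ⊔ zpowers e1
    have he1M : e1 ∈ M := mem_sup_right (mem_zpowers e1)
    have hTM : T ≤ M := le_sup_left
    have he2M : e2 ∈ F ⊔ M := by
      have h1 := mul_mem (mem_sup_right (mul_mem he1M (hTM (htT e1 he1))) : e1 * (e1⁻¹ * (D.t * e1 * D.t⁻¹)) ∈ F ⊔ M)
        (inv_mem (mem_sup_left hf2 : e2⁻¹ * (D.t * e1 * D.t⁻¹) ∈ F ⊔ M))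
      rwa [mul_inv_cancel_left, mul_inv_rev, inv_inv, mul_inv_cancel_left] at h1
    have heM : e ∈ F ⊔ M := by
      have h1 := mul_mem (mem_sup_left hn : e * e1 * e2 ∈ F ⊔ M)
        (inv_mem (mul_mem (mem_sup_right he1M : e1 ∈ F ⊔ M) he2M))
      rwa [show e * e1 * e2 * (e1 * e2)⁻¹ = e by group] at h1
    have hMH : M = H := hgen M (sup_le inf_le_left (zpowers_le.2 he1)) (le_antisymm
      (sup_le hFH (sup_le inf_le_left (zpowers_le.2 he1)))
      (hLtop.symm.le.trans (sup_le le_sup_left (sup_le (zpowers_le.2 heM) (zpowers_le.2 (mem_sup_right he1M))))))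
    refine hZK fun z hz => hTZ z hz ((commutator_le.2 fun a ha b hb => ?_ : ⁅H, H⁆ ≤ T) hz.1)
    obtain ⟨y, hy, x, ⟨i, rfl⟩, rfl⟩ := (mem_sup_of_le_normalizer (zpowers_le.2 (hHT he1))).1 (hMH.ge ha)
    obtain ⟨w, hw, x', ⟨j, rfl⟩, rfl⟩ := (mem_sup_of_le_normalizer (zpowers_le.2 (hHT he1))).1 (hMH.ge hb)
    have hab : ⁅y * e1 ^ i, w * e1 ^ j⁆ =
        y * (e1 ^ i * w * (e1 ^ i)⁻¹) * (e1 ^ j * y⁻¹ * (e1 ^ j)⁻¹) * w⁻¹ := by
      simp only [commutatorElement_def]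
      calc y * e1 ^ i * (w * e1 ^ j) * (y * e1 ^ i)⁻¹ * (w * e1 ^ j)⁻¹
          = y * (e1 ^ i * w * (e1 ^ i)⁻¹) * ((e1 ^ i * e1 ^ j * (e1 ^ i)⁻¹) * y⁻¹ * (e1 ^ j)⁻¹) * w⁻¹ := by group
        _ = _ := by rw [← zpow_add, add_comm, zpow_add, mul_inv_cancel_right]
    show ⁅y * e1 ^ i, w * e1 ^ j⁆ ∈ T
    rw [hab]
    exact mul_mem (mul_mem (mul_mem hy (Pair.conj_mem (zpow_mem (hHT he1) i) hw))
      (Pair.conj_mem (zpow_mem (hHT he1) j) (inv_mem hy))) (inv_mem hw)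

end Cfsg.Lib.SThree
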