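/-
A solvable group of order prime to 6 admitting `S₃` without fixed points has nilpotent derived subgroup.
-/
import Cfsg.Agent.SolvStruct.SThree.PGroupCase
import Cfsg.Agent.SolvStruct.NilpotentMaximal

set_option linter.style.haveILetI false
set_option linter.unusedSectionVars false

namespace Cfsg.Lib.SThree

open Subgroup Cfsg.Lib.Coprime
open scoped commutatorElement

universe u

section
variable {X : Type u} [Group X] [Finite X]

theorem nilpotent_of_equiv {A B : Type u} [Group A] [Group B] (e : A ≃* B) (h : Group.IsNilpotent A) :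
    Group.IsNilpotent B := by
  haveI := h
  exact Group.nilpotent_of_surjective e.toMonoidHom e.surjective

theorem normal_sylow_of_nilpotent {D : Type u} [Group D] [Finite D] (hD : Group.IsNilpotent D) {q : ℕ}
    [Fact q.Prime] (S : Sylow q D) : (S : Subgroup D).Normal := by
  haveI := hD
  have h03 := (Group.isNilpotent_of_finite_tfae (G := D)).out 0 3
  exact h03.1 hD q ‹_› S

theorem le_sylow_of_normal {D : Type u} [Group D] [Finite D] {q : ℕ} [Fact q.Prime] (S : Sylow q D)
    (hS : (S : Subgroup D).Normal) {U : Subgroup D} (hU : IsPGroup q U) : U ≤ (S : Subgroup D) := by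
  obtain ⟨T, hT⟩ := hU.exists_le_sylow
  letI := Sylow.unique_of_normal S hS
  rwa [Subsingleton.elim S T]

/-- the Sylow subgroups of a nilpotent subgroup are normalised by its normalizer -/
theorem normalizer_le_normalizer_sylow {D : Subgroup X} (hD : Group.IsNilpotent D) {q : ℕ} [Fact q.Prime]
    (S : Sylow q D) : normalizer (D : Set X) ≤ normalizer (((S : Subgroup D).map D.subtype : Subgroup X) : Set X) := by
  haveI := S.characteristic_of_normal (normal_sylow_of_nilpotent hD S)
  exact normalizer_le_normalizer_map_characteristic _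

theorem normalizer_le_normalizer_derived (H : Subgroup X) :
    normalizer (H : Set X) ≤ normalizer ((⁅H, H⁆ : Subgroup X) : Set X) := fun g hg => by
  rw [← conjMap_eq_self_iff, conjMap, map_commutator,
    show H.map (MulAut.conj g).toMonoidHom = H from conjMap_eq_self hg]

theorem normal_of_top {N : Subgroup X} {A B : Subgroup X} (hAB : A ⊔ B = ⊤) (hA : A ≤ normalizer (N : Set X))
    (hB : B ≤ normalizer (N : Set X)) : N.Normal :=
  normalizer_eq_top_iff.1 (top_le_iff.1 (hAB ▸ sup_le hA hB))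

theorem card_map_lt {Y : Type u} [Group Y] (π : X →* Y) {K : Subgroup X} {N : Subgroup X} (hN : N ≠ ⊥)
    (hNK : N ≤ K) (hker : N ≤ π.ker) : Nat.card (K.map π) < Nat.card K := by
  rcases Nat.lt_or_ge (Nat.card (K.map π)) (Nat.card K) with h | h
  · exact h
  exfalso
  have hs : Function.Surjective (π.subgroupMap K) := π.subgroupMap_surjective K
  have hbij : Function.Bijective (π.subgroupMap K) :=
    (Nat.bijective_iff_surjective_and_card _).2 ⟨hs, le_antisymm h (Nat.card_le_card_of_surjective _ hs)⟩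
  refine hN ((eq_bot_iff_forall _).2 fun x hx => ?_)
  have h1 : π.subgroupMap K ⟨x, hNK hx⟩ = π.subgroupMap K 1 := by
    rw [map_one]; exact Subtype.ext (hker hx)
  exact congrArg Subtype.val (hbij.1 h1)

theorem sup_lt_of_lt {V H L : Subgroup X} (hVH : V ⊓ H = ⊥) (hHV : H ≤ normalizer (V : Set X)) (hLH : L ≤ H)
    (h : V ⊔ L = V ⊔ H) : L = H := by
  refine le_antisymm hLH fun x hx => ?_
  obtain ⟨a, ha, b, hb, rfl⟩ := (mem_sup_of_le_normalizer (hLH.trans hHV)).1 (h.ge (mem_sup_right hx))
  have : a ∈ V ⊓ H := Subgroup.mem_inf.2 ⟨ha, by simpa using mul_mem hx (inv_mem (hLH hb))⟩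
  rw [hVH, mem_bot] at this
  rwa [this, one_mul]

/-- the irreducible configuration -/
theorem no_faithful {P : Pair X} {G0 : Subgroup X} {p : ℕ} {V H : Subgroup X} (hp : p.Prime)
    (hG : P.Stable G0) (hf : P.Free G0) (hc : (Nat.card G0).Coprime 6) (hVG : V ≤ G0) (hHG : H ≤ G0)
    (hV : P.Stable V) (hH : P.Stable H) (hVc : IsMulCommutative V) (hVp : IsPGroup p V)
    (hsolH : Group.IsSolvable H)
    (hHV : H ≤ normalizer (V : Set X)) (hnab : ¬ IsMulCommutative H)
    (hprop : ∀ L : Subgroup X, L ≤ H → L ≠ H → P.Stable L → IsMulCommutative L)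
    (hder : Group.IsNilpotent ↥⁅H, H⁆)
    (hirr : ∀ M : Subgroup X, M ≤ H → M ≠ ⊥ → P.Stable M → H ≤ normalizer (M : Set X) →
      V ⊓ centralizer (M : Set X) = ⊥)
    (hfaith : H ⊓ centralizer (V : Set X) = ⊥)
    (hnop : ∀ M : Subgroup X, M ≤ H → P.Stable M → H ≤ normalizer (M : Set X) → IsPGroup p M → M = ⊥) :
    False := by
  classical
  haveI := Fact.mk hp
  have hcH := Pair.coprime_mono hHG hc
  have hcopH := Pair.coprime_grp (P := P) hcH
  by_cases hpr : ∃ r : ℕ, r.Prime ∧ IsPGroup r H
  · obtain ⟨r, hr, hHr⟩ := hpr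
    refine pgroup hp hr (fun e => ?_) hG hf hc hVG hHG hV hH hVc hVp hHr hHV hnab hprop hirr hfaith
    subst e
    have := hnop H le_rfl hH le_normalizer hHr
    exact hnab ⟨⟨fun a b => by
      rw [show a = 1 from Subtype.ext (mem_bot.1 (this.le a.2)), one_mul, mul_one]⟩⟩
  push Not at hpr
  -- invariant Sylow subgroups are abelian
  have hsyl : ∀ r : ℕ, r.Prime → ∃ R : Sylow r H, P.Stable ((R : Subgroup H).map H.subtype) ∧
      IsMulCommutative ((R : Subgroup H).map H.subtype) := by
    intro r hr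
    haveI := Fact.mk hr
    obtain ⟨R, hR⟩ := exists_invariant_sylow hH hcopH (Or.inl P.isSolvable_grp) r
    exact ⟨R, hR, hprop _ (map_subtype_le _) (fun e => hpr r hr ((R.2.map H.subtype).to_le e.ge)) hR⟩
  set H' := ⁅H, H⁆
  have hH'H : H' ≤ H := commutator_le_self H
  have hHH' : H ≤ normalizer (H' : Set X) := le_normalizer.trans (normalizer_le_normalizer_derived H)
  -- Sylow subgroups of the derived subgroup
  have hsylD : ∀ q : ℕ, ∀ _ : Fact q.Prime, ∀ S : Sylow q H',
      P.Stable ((S : Subgroup H').map H'.subtype) ∧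
      H ≤ normalizer (((S : Subgroup H').map H'.subtype : Subgroup X) : Set X) := fun q _ S =>
    ⟨(hH.trans (normalizer_le_normalizer_derived H)).trans (normalizer_le_normalizer_sylow hder S),
      hHH'.trans (normalizer_le_normalizer_sylow hder S)⟩
  -- some prime `q` of `H'` and a Sylow subgroup of `H` acting nontrivially
  obtain ⟨q, hq, Sq, r, hr, R, hR, hRc, hnc⟩ : ∃ q : ℕ, ∃ _ : Fact q.Prime, ∃ Sq : Sylow q H', ∃ r : ℕ,
      ∃ _ : Fact r.Prime, ∃ R : Sylow r H, P.Stable ((R : Subgroup H).map H.subtype) ∧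
        IsMulCommutative ((R : Subgroup H).map H.subtype) ∧
        ¬ (R : Subgroup H).map H.subtype ≤ centralizer (((Sq : Subgroup H').map H'.subtype : Subgroup X) : Set X) := by
    by_contra hne
    push Not at hne
    have hcen : H' ≤ centralizer (H : Set X) := by
      refine le_of_forall_sylow fun q hq => ?_
      haveI := Fact.mk hq
      obtain ⟨Sq⟩ : Nonempty (Sylow q H') := inferInstance
      refine ⟨Sq, le_centralizer_iff.1 (le_of_forall_sylow fun r hr => ?_)⟩
      obtain ⟨R, hR, hRc⟩ := hsyl r hr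
      exact ⟨R, hne q ⟨hq⟩ Sq r ⟨hr⟩ R hR hRc⟩
    have hnil : Group.IsNilpotent H := by
      haveI : Group.IsNilpotent (H ⧸ commutator H) := by
        letI : CommGroup (Abelianization H) := inferInstance
        exact (inferInstance : Group.IsNilpotent (Abelianization H))
      refine Subgroup.isNilpotent_of_ker_le_center (QuotientGroup.mk' (commutator H)) ?_
      rw [QuotientGroup.ker_mk']
      intro z hz
      refine mem_center_iff.2 fun g => Subtype.ext ?_
      exact mem_centralizer_iff.1 (hcen (by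
        show (z : X) ∈ ⁅H, H⁆
        rw [← map_subtype_commutator]; exact ⟨z, hz, rfl⟩)) g g.2
    -- then all Sylow subgroups commute
    refine hnab ⟨⟨fun a b => ?_⟩⟩
    have hab : H ≤ centralizer (H : Set X) := by
      refine le_of_forall_sylow fun r hr => ?_
      obtain ⟨R, hR, hRc⟩ := hsyl r hr
      haveI := Fact.mk hr
      refine ⟨R, le_centralizer_iff.1 (le_of_forall_sylow fun r' hr' => ?_)⟩
      obtain ⟨R', hR', hRc'⟩ := hsyl r' hr'
      refine ⟨R', ?_⟩
      haveI := Fact.mk hr'
      rintro _ ⟨y, hy, rfl⟩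
      refine mem_centralizer_iff.2 ?_
      rintro _ ⟨x, hx, rfl⟩
      by_cases hrr : r = r'
      · subst hrr
        letI := Sylow.unique_of_normal R (normal_sylow_of_nilpotent hnil R)
        have hy' : y ∈ (R : Subgroup H) := by rwa [Subsingleton.elim R R']
        haveI := hRc
        exact congrArg Subtype.val (mul_comm' (⟨x, mem_map_of_mem _ hx⟩ : (R : Subgroup H).map H.subtype)
          ⟨y, mem_map_of_mem _ hy'⟩)
      · have hd : Disjoint (R : Subgroup H) (R' : Subgroup H) :=
          IsPGroup.disjoint_of_ne r r' hrr _ _ R.2 R'.2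
        exact congrArg Subtype.val (Subgroup.commute_of_normal_of_disjoint _ _ (normal_sylow_of_nilpotent hnil R)
          (normal_sylow_of_nilpotent hnil R') hd x y hx hy).eq
    exact Subtype.ext (mem_centralizer_iff.1 (hab b.2) a a.2)
  set Q := (Sq : Subgroup H').map H'.subtype
  set R' := (R : Subgroup H).map H.subtype
  obtain ⟨hQs, hHQ⟩ := hsylD q hq Sq
  have hQH : Q ≤ H := (map_subtype_le _).trans hH'H
  have hQp : IsPGroup q Q := Sq.2.map H'.subtype
  have hRp : IsPGroup r R' := R.2.map H.subtype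
  have hRH : R' ≤ H := map_subtype_le _
  have hQne : Q ≠ ⊥ := fun e => hnc (by
    intro x _
    exact mem_centralizer_iff.2 fun y hy => by rw [e, SetLike.mem_coe, mem_bot] at hy; simp [hy])
  have hqp : q ≠ p := by rintro rfl; exact hQne (hnop Q hQH hQs hHQ hQp)
  -- `R'` does not centralise, so `Q R' = H`
  have hgen : ∀ E : Subgroup X, E ≤ Q → P.Stable E → E ⊔ R' ≠ H → E ≤ centralizer (R' : Set X) := by
    intro E hE hEs hne
    haveI := hprop _ (sup_le (hE.trans hQH) hRH) hne (hEs.sup hR)
    exact fun x hx => mem_centralizer_iff.2 fun y hy =>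
      congrArg Subtype.val (mul_comm' (⟨y, mem_sup_right hy⟩ : (E ⊔ R' : Subgroup X)) ⟨x, mem_sup_left hx⟩)
  have hQR : Q ⊔ R' = H := by_contra fun h => hnc (le_centralizer_iff.1 (hgen Q le_rfl hQs h))
  have hrq : r ≠ q := by
    rintro rfl
    have : IsPGroup r (Q ⊔ R' : Subgroup X) := hQp.to_sup_of_normal_left' hRp (hRH.trans hHQ)
    rw [hQR] at this
    exact hpr r hr.out this
  have hQc : IsMulCommutative Q := hprop Q hQH (fun e => hpr q hq.out (hQp.to_le e.ge)) hQs
  have hcopQR : Q ⊓ R' = ⊥ := disjoint_iff.1 (IsPGroup.disjoint_of_ne q r hrq.symm Q R' hQp hRp)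
  have hsplit : ∀ x ∈ Q, ∀ E : Subgroup X, E ≤ Q → R' ≤ normalizer (E : Set X) → x ∈ E ⊔ R' → x ∈ E := by
    intro x hx E hE hEn hxs
    obtain ⟨a, ha, b, hb, rfl⟩ := (mem_sup_of_le_normalizer hEn).1 hxs
    have : b ∈ Q ⊓ R' := Subgroup.mem_inf.2 ⟨by simpa using mul_mem (inv_mem (hE ha)) hx, hb⟩
    rw [hcopQR, mem_bot] at this
    rwa [this, mul_one]
  have hcop : (Nat.card R').Coprime (Nat.card Q) := by
    obtain ⟨i, hi⟩ := hQp.exists_card_eq
    obtain ⟨j, hj⟩ := hRp.exists_card_eq
    rw [hi, hj]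
    exact Nat.Coprime.pow _ _ ((Nat.coprime_primes hr.out hq.out).2 hrq)
  have hRQ : R' ≤ normalizer (Q : Set X) := hRH.trans hHQ
  have hcomm : ⁅Q, R'⁆ = Q := by
    set E := ⁅Q, R'⁆
    have hEQ : E ≤ Q := commutator_le_of_le_normalizer hRQ
    have hEs : P.Stable E := fun g hg => by
      rw [← conjMap_eq_self_iff, conjMap, map_commutator,
        show Q.map (MulAut.conj g).toMonoidHom = Q from conjMap_eq_self (hQs hg),
        show R'.map (MulAut.conj g).toMonoidHom = R' from conjMap_eq_self (hR hg)]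
    by_cases hE : E ⊔ R' = H
    · exact le_antisymm hEQ fun x hx => hsplit x hx E hEQ (le_normalizer_commutator_right R' Q) (hE.ge (hQH hx))
    · exfalso
      have h1 : ⁅E, R'⁆ = ⊥ := commutator_eq_bot_iff_le_centralizer.2 (hgen E hEQ hEs hE)
      rw [commutator_commutator_eq hRQ hcop (Or.inr (Group.isSolvable_of_comm fun a b => mul_comm' a b))] at h1
      exact hnc (le_centralizer_iff.1 (commutator_eq_bot_iff_le_centralizer.1 h1))
  have hCQR : Q ⊓ centralizer (R' : Set X) = ⊥ := by
    have := (abelian_coprime_decomp hRQ hcop).1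
    rw [hcomm] at this
    rw [← this]
    exact (inf_eq_left.2 inf_le_left).symm
  have hQe : ∀ x ∈ Q, x ^ q = 1 := by
    haveI := hQc
    let E : Subgroup X :=
      { carrier := {x | x ∈ Q ∧ x ^ q = 1}
        one_mem' := ⟨one_mem _, one_pow _⟩
        mul_mem' := by
          rintro a b ⟨ha, ha'⟩ ⟨hb, hb'⟩
          refine ⟨mul_mem ha hb, ?_⟩
          rw [(show Commute a b from congrArg Subtype.val (mul_comm' (⟨a, ha⟩ : Q) ⟨b, hb⟩)).mul_pow, ha', hb', one_mul]
        inv_mem' := by
          rintro a ⟨ha, ha'⟩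
          exact ⟨inv_mem ha, by rw [inv_pow, ha', inv_one]⟩ }
    have hEQ : E ≤ Q := fun x hx => hx.1
    have hEn : normalizer (Q : Set X) ≤ normalizer (E : Set X) := fun g hg =>
      mem_normalizer_of_conj_mem (fun z hz => ⟨Pair.conj_mem hg hz.1, by rw [conj_pow, hz.2, mul_one, mul_inv_cancel]⟩)
        (fun z hz => by
          refine ⟨?_, ?_⟩
          · have := Pair.conj_mem (inv_mem hg) hz.1
            rwa [inv_inv] at this
          · have h := conj_pow (a := g⁻¹) (b := z) (i := q)
            rw [inv_inv] at h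
            rw [h, hz.2, mul_one, inv_mul_cancel])
    by_cases hE : E ⊔ R' = H
    · exact fun x hx => (hsplit x hx E hEQ (hRQ.trans hEn) (hE.ge (hQH hx))).2
    · exfalso
      have h1 : E ≤ Q ⊓ centralizer (R' : Set X) := le_inf hEQ (hgen E hEQ (hQs.trans hEn) hE)
      obtain ⟨x, hx⟩ := exists_prime_orderOf_dvd_card' q (G := Q)
        (hQp.card_eq_or_dvd.resolve_left fun e => hQne (Subgroup.card_eq_one.1 e))
      have hxE : (x : X) ∈ E := ⟨x.2, by rw [← hx, ← Subgroup.coe_pow, pow_orderOf_eq_one, Subgroup.coe_one]⟩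
      have := h1 hxE
      rw [hCQR, mem_bot] at this
      rw [show x = 1 from Subtype.ext this, orderOf_one] at hx
      exact hq.out.ne_one hx.symm
  have hQfaith : Q ⊓ centralizer (V : Set X) = ⊥ := le_bot_iff.1 (hfaith ▸ inf_le_inf_right _ hQH)
  have S : Setup P G0 p q V Q :=
    { hp := hp, hq := hq.out, hqp := hqp, hG := hG, hf := hf, hc := hc, hVG := hVG, hQG := hQH.trans hHG,
      hV := hV, hQ := hQs, hVc := hVc, hQc := hQc, hVp := hVp, hQp := hQp, hQV := hQH.trans hHV,
      hCVQ := hirr Q hQH hQne hQs hHQ }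
  refine mixed S hr.out hrq (hRH.trans hHG) hR hRc hRp (hRH.trans hHV) hRQ hQne hQe hcomm hCQR hQfaith ?_
  intro R0 hR0 hne hR0s
  by_cases hsup : Q ⊔ R0 = H
  · refine absurd (le_antisymm hR0 fun x hx => ?_) hne
    obtain ⟨a, ha, b, hb, rfl⟩ := (mem_sup_of_le_normalizer (hR0.trans hRQ)).1 (hsup.ge (hRH hx))
    have : a ∈ Q ⊓ R' := Subgroup.mem_inf.2 ⟨ha, by simpa using mul_mem hx (inv_mem (hR0 hb))⟩
    rw [hcopQR, mem_bot] at this
    rwa [this, one_mul]
  · haveI := hprop _ (sup_le hQH (hR0.trans hRH)) hsup (hQs.sup hR0s)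
    exact fun x hx => mem_centralizer_iff.2 fun y hy =>
      congrArg Subtype.val (mul_comm' (⟨y, mem_sup_left hy⟩ : (Q ⊔ R0 : Subgroup X)) ⟨x, mem_sup_right hx⟩)

end

/-- the induction step, for a normal subgroup -/
theorem step {X : Type u} [Group X] [Finite X] (P : Pair X) (K : Subgroup X) (hKn : K.Normal)
    (htop : K ⊔ P.grp = ⊤) (hf : P.Free K) (hc : (Nat.card K).Coprime 6) (hsol : Group.IsSolvable K)
    (ih : ∀ (Y : Type u) [Group Y] [Finite Y] (D : Pair Y) (L : Subgroup Y), Nat.card L < Nat.card K →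
      D.Stable L → D.Free L → (Nat.card L).Coprime 6 → Group.IsSolvable L → Group.IsNilpotent ↥⁅L, L⁆) :
    Group.IsNilpotent ↥⁅K, K⁆ := by
  classical
  haveI := hKn
  have hKs : P.Stable K := le_normalizer_of_normal
  set D := ⁅K, K⁆
  have hDK : D ≤ K := commutator_le_self K
  haveI hDn : D.Normal := inferInstanceAs (⁅K, K⁆).Normal
  by_cases hK : K = ⊥
  · haveI : Subsingleton D := ⟨fun a b => Subtype.ext (by
      have h : ∀ x ∈ D, x = 1 := fun x hx => mem_bot.1 (hK.le (hDK hx))
      rw [h a a.2, h b b.2])⟩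
    infer_instance
  -- quotients
  have hquot : ∀ N : Subgroup X, ∀ _ : N.Normal, N ≠ ⊥ → N ≤ K →
      Group.IsNilpotent (D.map (QuotientGroup.mk' N)) := by
    intro N _ hN hNK
    set π := QuotientGroup.mk' N
    let P' : Pair (X ⧸ N) :=
      { s := π P.s, t := π P.t, hs := by rw [← map_pow, P.hs, map_one], ht := by rw [← map_mul, P.ht, map_one],
        hts := by rw [← map_mul, ← map_mul, P.hts, map_inv] }
    haveI hKm : (K.map π).Normal := hKn.map π (QuotientGroup.mk'_surjective N)
    have hfree : P'.Free (K.map π) := by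
      refine (eq_bot_iff_forall _).2 ?_
      rintro _ ⟨⟨k, hk, rfl⟩, hcent⟩
      have hs' : π (P.s * k) = π (k * P.s) := by
        rw [map_mul, map_mul]; exact mem_centralizer_iff.1 hcent _ P'.s_mem
      have ht' : π (P.t * k) = π (k * P.t) := by
        rw [map_mul, map_mul]; exact mem_centralizer_iff.1 hcent _ P'.t_mem
      have hkey : ∀ a, π (a * k) = π (k * a) → k⁻¹ * (a * k * a⁻¹) ∈ N := fun a h => by
        rw [← QuotientGroup.eq_one_iff, ← QuotientGroup.mk'_apply]
        show π _ = 1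
        rw [map_mul, map_mul π (a * k), h, map_mul, map_inv, map_inv, mul_inv_cancel_right, inv_mul_cancel]
      have := Pair.mem_of_fixed_coset hf hc (D := N) le_normalizer_of_normal hNK hk (hkey _ hs') (hkey _ ht')
      exact (QuotientGroup.eq_one_iff _).2 this
    have h := ih (X ⧸ N) P' (K.map π) (card_map_lt π hN hNK (QuotientGroup.ker_mk' N).ge)
      le_normalizer_of_normal hfree (hc.coprime_dvd_left (card_map_dvd K π)) (isSolvable_map hsol π)
    rwa [← map_commutator] at h
  obtain ⟨V, hVK, hVn, hVne, hmin⟩ := exists_minimal_normal hKn hK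
  haveI := hVn
  have huniq : ∀ M : Subgroup X, M.Normal → M ≤ K → M ≠ ⊥ → V ≤ M ∨ Group.IsNilpotent D := by
    intro M hMn hMK hMne
    haveI := hMn
    rcases hmin (V ⊓ M) inferInstance inf_le_left with h | h
    · right
      haveI := hquot V hVn hVne hVK
      haveI := hquot M hMn hMne hMK
      let f := ((QuotientGroup.mk' V).subgroupMap D).prod ((QuotientGroup.mk' M).subgroupMap D)
      refine Subgroup.isNilpotent_of_ker_le_center f fun x hx => ?_
      have h1 : (x : X) ∈ V ⊓ M := by
        have h2 := congrArg Prod.fst (MonoidHom.mem_ker.1 hx)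
        have h3 := congrArg Prod.snd (MonoidHom.mem_ker.1 hx)
        exact Subgroup.mem_inf.2 ⟨(QuotientGroup.eq_one_iff _).1 (congrArg Subtype.val h2),
          (QuotientGroup.eq_one_iff _).1 (congrArg Subtype.val h3)⟩
      rw [h, mem_bot] at h1
      rw [show x = 1 from Subtype.ext h1]
      exact one_mem _
    · exact Or.inl (inf_eq_left.1 h)
  by_contra hnil
  have huniq' : ∀ M : Subgroup X, M.Normal → M ≤ K → M ≠ ⊥ → V ≤ M := fun M h1 h2 h3 =>
    (huniq M h1 h2 h3).resolve_right hnil
  obtain ⟨hVc, p, hp, hVp, hVe⟩ := minimal_normal_solvable (isSolvable_of_le hVK hsol) hVne hmin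
  haveI := Fact.mk hp
  haveI := hVc
  -- a prime other than `p`
  obtain ⟨q, hq, hqp, hqD⟩ : ∃ q : ℕ, q.Prime ∧ q ≠ p ∧ q ∣ Nat.card D := by
    by_contra hne
    push Not at hne
    apply hnil
    have hDp : IsPGroup p D := IsPGroup.of_card
      (Nat.eq_prime_pow_of_unique_prime_dvd Nat.card_pos.ne' (fun {d} hd hdD => by
        by_contra h; exact hne d hd h hdD))
    exact hDp.isNilpotent
  haveI := Fact.mk hq
  have hcK : (Nat.card P.grp).Coprime (Nat.card K) := Pair.coprime_grp hc
  obtain ⟨Sq, hSq⟩ := exists_invariant_sylow (A := P.grp) (K := D) le_normalizer_of_normal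
    (coprime_of_le hDK hcK) (Or.inl P.isSolvable_grp) q
  set Q := (Sq : Subgroup D).map D.subtype
  have hQD : Q ≤ D := map_subtype_le _
  have hQp : IsPGroup q Q := Sq.2.map D.subtype
  have hQne : Q ≠ ⊥ := fun e => by
    have := Sylow.dvd_card_of_dvd_card Sq hqD
    rw [show (Sq : Subgroup D) = ⊥ from (Subgroup.map_eq_bot_iff_of_injective _ D.subtype_injective).1 e,
      card_bot, Nat.dvd_one] at this
    exact hq.ne_one this
  -- `Q V` is normal
  set π := QuotientGroup.mk' V
  have hDbar := hquot V hVn hVne hVK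
  set Sbar := Sq.mapSurjective (π.subgroupMap_surjective D)
  have hcover : ∀ U : Subgroup X, U ≤ D → IsPGroup q U → U ≤ Q ⊔ V := by
    intro U hUD hU x hx
    have h1 : IsPGroup q ((U.map π).subgroupOf (D.map π)) :=
      (hU.map π).of_equiv (subgroupOfEquivOfLe (Subgroup.map_mono hUD)).symm
    have h2 := le_sylow_of_normal Sbar (normal_sylow_of_nilpotent hDbar Sbar) h1
      (show (⟨π x, mem_map_of_mem π (hUD hx)⟩ : D.map π) ∈ (U.map π).subgroupOf (D.map π) from mem_map_of_mem π hx)
    rw [Sylow.coe_mapSurjective] at h2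
    obtain ⟨y, hy, hyx⟩ := h2
    have h3 : (y : X)⁻¹ * x ∈ V := by
      rw [← QuotientGroup.eq]
      exact congrArg Subtype.val hyx
    have h4 : x = (y : X) * ((y : X)⁻¹ * x) := by rw [mul_inv_cancel_left]
    rw [h4]
    exact mul_mem_sup ⟨y, hy, rfl⟩ h3
  haveI hQVn : (Q ⊔ V).Normal := by
    refine ⟨fun a ha g => ?_⟩
    have hle : Q ⊔ V ≤ (Q ⊔ V).comap (MulAut.conj g).toMonoidHom := by
      refine sup_le (fun y hy => ?_) (fun y hy => mem_sup_right (hVn.conj_mem y hy g))
      exact hcover (conjMap g Q) (by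
        rintro _ ⟨z, hz, rfl⟩; exact hDn.conj_mem z (hQD hz) g) (hQp.map _) ⟨y, hy, rfl⟩
    exact hle ha
  have hQV : Q ≤ normalizer (V : Set X) := le_normalizer_of_normal
  have hcopVQ : (Nat.card V).Coprime (Nat.card Q) := by
    obtain ⟨i, hi⟩ := hVp.exists_card_eq
    obtain ⟨j, hj⟩ := hQp.exists_card_eq
    rw [hi, hj]
    exact Nat.Coprime.pow _ _ ((Nat.coprime_primes hp hq).2 hqp.symm)
  have hVQb : V ⊓ Q = ⊥ := Cfsg.Lib.Coprime.inf_eq_bot_of_coprime hcopVQ
  have hQnc : ¬ Q ≤ centralizer (V : Set X) := by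
    intro hcent
    have hQn : Q.Normal := ⟨fun y hy g => by
      obtain ⟨a, ha, v, hv, hav⟩ := (mem_sup_of_normal_right).1 (hQVn.conj_mem y (mem_sup_left hy) g)
      obtain ⟨k, hk⟩ := hQp ⟨y, hy⟩
      have hk' : y ^ q ^ k = 1 := congrArg Subtype.val hk
      have hcm : Commute a v := (mem_centralizer_iff.1 (hcent ha) v hv).symm
      have h1 : a ^ q ^ k * v ^ q ^ k = 1 := by rw [← hcm.mul_pow, hav, conj_pow, hk', mul_one, mul_inv_cancel]
      have h2 : v ^ q ^ k ∈ V ⊓ Q := Subgroup.mem_inf.2 ⟨pow_mem hv _, by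
        rw [eq_inv_of_mul_eq_one_right h1]; exact inv_mem (pow_mem ha _)⟩
      rw [hVQb, mem_bot] at h2
      have hco : (orderOf v).Coprime (q ^ k) := by
        obtain ⟨j, hj⟩ := hVp ⟨v, hv⟩
        exact Nat.Coprime.coprime_dvd_left (orderOf_dvd_of_pow_eq_one (congrArg Subtype.val hj))
          (Nat.Coprime.pow _ _ ((Nat.coprime_primes hp hq).2 hqp.symm))
      have hv1 : v = 1 := by
        have := mem_zpowers_pow hco
        rwa [h2, zpowers_one_eq_bot, mem_bot] at this
      rw [← hav, hv1, mul_one]; exact ha⟩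
    have := huniq' Q hQn (hQD.trans hDK) hQne
    exact hVne (le_bot_iff.1 (hVQb ▸ le_inf le_rfl this))
  -- the normalizer of `Q`
  set M := normalizer (Q : Set X)
  have hsupM : V ⊔ M = ⊤ := by
    refine eq_top_iff.2 fun g _ => ?_
    have hle : conjMap g Q ≤ V ⊔ Q := by
      rintro _ ⟨z, hz, rfl⟩
      rw [sup_comm]; exact hQVn.conj_mem z (mem_sup_left hz) g
    obtain ⟨d, hd, he⟩ := exists_conj_eq_of_coprime hQV hcopVQ
      (Or.inl (Group.isSolvable_of_comm fun a b => mul_comm' a b)) hle (card_conjMap g Q)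
    have hm : d⁻¹ * g ∈ M := by
      refine conjMap_eq_self_iff.1 ?_
      rw [← conjMap_mul, he, conjMap_inv_conjMap]
    have h4 : g = d * (d⁻¹ * g) := by rw [mul_inv_cancel_left]
    rw [h4]
    exact mul_mem_sup hd hm
  have hVM : V ⊓ M = ⊥ := by
    haveI : (V ⊓ M).Normal := normal_of_top hsupM
      (fun v hv => mem_normalizer_of_conj_mem
        (fun z hz => by rwa [show v * z = z * v from congrArg Subtype.val (mul_comm' (⟨v, hv⟩ : V) ⟨z, hz.1⟩), mul_inv_cancel_right])
        (fun z hz => by rwa [mul_assoc, show z * v = v * z from congrArg Subtype.val (mul_comm' (⟨z, hz.1⟩ : V) ⟨v, hv⟩), inv_mul_cancel_left]))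
      (le_normalizer_inf le_normalizer_of_normal le_normalizer)
    rcases hmin (V ⊓ M) inferInstance inf_le_left with h | h
    · exact h
    · exfalso
      have hVM' : V ≤ M := inf_eq_left.1 h
      refine hQnc (le_centralizer_iff.1 (commutator_eq_bot_iff_le_centralizer.1 (le_bot_iff.1 ?_)))
      rw [← hVQb]
      refine le_inf ?_ ?_
      · exact commutator_le_of_le_normalizer hQV
      · rw [commutator_comm]; exact commutator_le_of_le_normalizer hVM'
  set H := K ⊓ M
  have hHK : H ≤ K := inf_le_left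
  have hMH : M ≤ normalizer (H : Set X) := le_normalizer_inf le_normalizer_of_normal le_normalizer
  have hHs : P.Stable H := hSq.trans hMH
  have hKVH : K = V ⊔ H := by
    refine le_antisymm (fun x hx => ?_) (sup_le hVK hHK)
    obtain ⟨a, ha, b, hb, rfl⟩ := mem_sup_of_normal_left.1 (hsupM.ge (mem_top x))
    exact mul_mem_sup ha (Subgroup.mem_inf.2 ⟨by simpa using mul_mem (inv_mem (hVK ha)) hx, hb⟩)
  have hVHb : V ⊓ H = ⊥ := le_bot_iff.1 (hVM ▸ inf_le_inf_left _ inf_le_right)
  have hHlt : Nat.card H < Nat.card K := lt_of_le_of_ne (Nat.le_of_dvd Nat.card_pos (card_dvd_of_le hHK))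
    fun e => hVne (le_bot_iff.1 (hVHb ▸ le_inf le_rfl (hVK.trans (eq_of_le_of_card_ge hHK e.ge).ge)))
  have hHV : H ≤ normalizer (V : Set X) := le_normalizer_of_normal
  have hsupG : (V ⊔ H) ⊔ P.grp = ⊤ := hKVH ▸ htop
  have hfaith : H ⊓ centralizer (V : Set X) = ⊥ := by
    haveI : (H ⊓ centralizer (V : Set X)).Normal := normal_of_top hsupM
      (fun v hv => mem_normalizer_of_conj_mem
        (fun z hz => by rwa [mem_centralizer_iff.1 hz.2 v hv, mul_inv_cancel_right])
        (fun z hz => by rwa [mul_assoc, ← mem_centralizer_iff.1 hz.2 v hv, inv_mul_cancel_left]))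
      (le_normalizer_inf hMH (le_top.trans_eq (normalizer_eq_top_iff.2 hVn).symm |>.trans
        (Pair.normalizer_le_normalizer_centralizer V)))
    by_contra hne
    have := huniq' _ inferInstance (inf_le_left.trans hHK) hne
    exact hVne (le_bot_iff.1 (hVHb ▸ le_inf le_rfl (this.trans inf_le_left)))
  have hirr : ∀ L : Subgroup X, L ≤ H → L ≠ ⊥ → P.Stable L → H ≤ normalizer (L : Set X) →
      V ⊓ centralizer (L : Set X) = ⊥ := by
    intro L hLH hLne hLs hHL
    haveI : (V ⊓ centralizer (L : Set X)).Normal := normal_of_top hsupG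
      (sup_le (fun v hv => mem_normalizer_of_conj_mem
        (fun z hz => by rwa [show v * z = z * v from congrArg Subtype.val (mul_comm' (⟨v, hv⟩ : V) ⟨z, hz.1⟩), mul_inv_cancel_right])
        (fun z hz => by rwa [mul_assoc, show z * v = v * z from congrArg Subtype.val (mul_comm' (⟨z, hz.1⟩ : V) ⟨v, hv⟩), inv_mul_cancel_left]))
        (le_normalizer_inf hHV (hHL.trans (Pair.normalizer_le_normalizer_centralizer L))))
      (le_normalizer_inf le_normalizer_of_normal (hLs.trans (Pair.normalizer_le_normalizer_centralizer L)))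
    rcases hmin _ inferInstance (inf_le_left : V ⊓ centralizer (L : Set X) ≤ V) with h | h
    · exact h
    · exact absurd (le_bot_iff.1 (hfaith ▸ le_inf hLH (le_centralizer_iff.1 (inf_eq_left.1 h)))) hLne
  have hnop : ∀ L : Subgroup X, L ≤ H → P.Stable L → H ≤ normalizer (L : Set X) → IsPGroup p L → L = ⊥ := by
    intro L hLH hLs hHL hLp
    by_contra hLne
    have hLV : IsPGroup p (V ⊔ L : Subgroup X) := hVp.to_sup_of_normal_left' hLp le_normalizer_of_normal
    haveI : Group.IsNilpotent (V ⊔ L : Subgroup X) := hLV.isNilpotent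
    have hVne' : V.subgroupOf (V ⊔ L) ≠ ⊥ := fun e =>
      hVne ((disjoint_iff.1 (subgroupOf_eq_bot.1 e)) ▸ (inf_eq_left.2 le_sup_left).symm)
    obtain ⟨z, hz, hz1⟩ := Setup.exists_ne_one (inf_center_ne_bot (V.subgroupOf (V ⊔ L)) hVne')
    have h2 : (z : X) ∈ V ⊓ centralizer (L : Set X) := Subgroup.mem_inf.2 ⟨mem_subgroupOf.1 hz.1,
      mem_centralizer_iff.2 fun l hl => congrArg Subtype.val (mem_center_iff.1 hz.2 ⟨l, mem_sup_right hl⟩)⟩
    rw [hirr L hLH hLne hLs hHL, mem_bot] at h2
    exact hz1 (Subtype.ext h2)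
  have hsolH := isSolvable_of_le hHK hsol
  have hderH : Group.IsNilpotent ↥⁅H, H⁆ :=
    ih X P H hHlt hHs (hf.mono hHK) (Pair.coprime_mono hHK hc) hsolH
  -- `|H'|` is prime to `p`
  have hpH' : ∀ y ∈ ⁅H, H⁆, (orderOf y).Coprime p := by
    intro y hy
    obtain ⟨S⟩ : Nonempty (Sylow p ↥⁅H, H⁆) := inferInstance
    have hb := hnop _ ((map_subtype_le _).trans (commutator_le_self H))
      ((hHs.trans (normalizer_le_normalizer_derived H)).trans (normalizer_le_normalizer_sylow hderH S))
      ((le_normalizer.trans (normalizer_le_normalizer_derived H)).trans (normalizer_le_normalizer_sylow hderH S))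
      (S.2.map _)
    have hnd : ¬ p ∣ Nat.card ↥⁅H, H⁆ := fun hd => by
      have := Sylow.dvd_card_of_dvd_card S hd
      rw [show (S : Subgroup ↥⁅H, H⁆) = ⊥ from
        (Subgroup.map_eq_bot_iff_of_injective _ (Subgroup.subtype_injective _)).1 hb, card_bot, Nat.dvd_one] at this
      exact hp.ne_one this
    exact Nat.Coprime.coprime_dvd_left (by rw [← Subgroup.orderOf_mk y hy]; exact orderOf_dvd_natCard _)
      (hp.coprime_iff_not_dvd.2 hnd).symm
  -- proper invariant subgroups of `H` are abelian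
  have hprop : ∀ L : Subgroup X, L ≤ H → L ≠ H → P.Stable L → IsMulCommutative L := by
    intro L hLH hne hLs
    have hlt : Nat.card (V ⊔ L : Subgroup X) < Nat.card K :=
      lt_of_le_of_ne (Nat.le_of_dvd Nat.card_pos (card_dvd_of_le (sup_le hVK (hLH.trans hHK))))
        fun e => hne (sup_lt_of_lt hVHb hHV hLH ((eq_of_le_of_card_ge (sup_le hVK (hLH.trans hHK)) e.ge).trans hKVH))
    have hnil' := ih X P (V ⊔ L) hlt ((show P.Stable V from le_normalizer_of_normal).sup hLs)
      (hf.mono (sup_le hVK (hLH.trans hHK))) (Pair.coprime_mono (sup_le hVK (hLH.trans hHK)) hc)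
      (isSolvable_of_le (sup_le hVK (hLH.trans hHK)) hsol)
    have hb : ⁅L, L⁆ = ⊥ := by
      refine (eq_bot_iff_forall _).2 fun y hy => ?_
      have hy2 : y ∈ ⁅H, H⁆ := commutator_mono hLH hLH hy
      have hcy := hpH' y hy2
      have hcentV : y ∈ centralizer (V : Set X) := by
        refine mem_centralizer_iff.2 fun v hv => ?_
        set c := ⁅v, y⁆
        have hyL : y ∈ L := commutator_le_self L hy
        have hcV : c ∈ V := commutator_le_of_le_normalizer (A := (⊤ : Subgroup X)) le_normalizer_of_normal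
          (commutator_mem_commutator hv (mem_top y))
        have hcM : c ∈ ⁅V ⊔ L, V ⊔ L⁆ := commutator_mem_commutator (mem_sup_left hv) (mem_sup_right hyL)
        have hyM : y ∈ ⁅V ⊔ L, V ⊔ L⁆ := commutator_mono le_sup_right le_sup_right hy
        have hc2 : Commute c y := Cfsg.Lib.NilMax.commute_of_nilpotent hnil' (p := p) hcM hyM
          ⟨1, by rw [pow_one]; exact hVe c hcV⟩ hcy
        have hstep : ∀ n : ℕ, y ^ n * v⁻¹ * (y ^ n)⁻¹ = v⁻¹ * c ^ n := by
          intro n
          induction n with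
          | zero => simp
          | succ n ih' =>
            calc y ^ (n + 1) * v⁻¹ * (y ^ (n + 1))⁻¹ = y * (y ^ n * v⁻¹ * (y ^ n)⁻¹) * y⁻¹ := by
                  rw [pow_succ']; group
              _ = (y * v⁻¹ * y⁻¹) * (y * c ^ n * y⁻¹) := by rw [ih']; group
              _ = (v⁻¹ * c) * c ^ n := by
                  rw [← ((hc2.pow_left n).eq), mul_inv_cancel_right,
                    show y * v⁻¹ * y⁻¹ = v⁻¹ * c by simp only [c, commutatorElement_def]; group]
              _ = _ := by rw [mul_assoc, ← pow_succ']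
        have h1 := hstep (orderOf y)
        rw [pow_orderOf_eq_one, one_mul, inv_one, mul_one, left_eq_mul] at h1
        have hc1 : c = 1 := by
          rw [← orderOf_eq_one_iff]
          exact Nat.eq_one_of_dvd_coprimes hcy (orderOf_dvd_of_pow_eq_one h1) (orderOf_dvd_of_pow_eq_one (hVe c hcV))
        exact commutatorElement_eq_one_iff_mul_comm.1 hc1
      have : y ∈ H ⊓ centralizer (V : Set X) :=
        Subgroup.mem_inf.2 ⟨hLH (commutator_le_self L hy), hcentV⟩
      rw [hfaith] at this
      exact mem_bot.1 this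
    exact ⟨⟨fun a b => Subtype.ext (commutatorElement_eq_one_iff_mul_comm.1
      (mem_bot.1 (hb.le (commutator_mem_commutator a.2 b.2))))⟩⟩
  -- `H` is not abelian
  have hnab : ¬ IsMulCommutative H := by
    intro hab
    have hH' : ⁅H, H⁆ = ⊥ := commutator_eq_bot_iff_le_centralizer.2 fun a ha => mem_centralizer_iff.2 fun b hb =>
      congrArg Subtype.val (mul_comm' (⟨b, hb⟩ : H) ⟨a, ha⟩)
    have hDV : D ≤ V := by
      have h1 : D.map π = ⊥ := by
        have hV1 : V.map π = ⊥ := (Subgroup.map_eq_bot_iff _).2 (QuotientGroup.ker_mk' V).ge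
        rw [show D = ⁅K, K⁆ from rfl, map_commutator, hKVH, Subgroup.map_sup, hV1, bot_sup_eq, ← map_commutator,
          hH', Subgroup.map_bot]
      rw [Subgroup.map_eq_bot_iff, QuotientGroup.ker_mk'] at h1
      exact h1
    exact hQne (le_bot_iff.1 (hVQb ▸ le_inf (hQD.trans hDV) le_rfl))
  exact no_faithful hp hKs hf hc hVK hHK le_normalizer_of_normal hHs hVc hVp hsolH hHV hnab hprop hderH hirr hfaith hnop

theorem main : ∀ (n : ℕ) (X : Type u) [Group X] [Finite X] (P : Pair X) (K : Subgroup X),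
    Nat.card K = n → P.Stable K → P.Free K → (Nat.card K).Coprime 6 → Group.IsSolvable K →
      Group.IsNilpotent ↥⁅K, K⁆ := by
  intro n
  induction n using Nat.strong_induction_on with
  | _ n ih =>
  intro X _ _ P K hn hs hf hc hsol
  set L := K ⊔ P.grp
  let P' : Pair L :=
    { s := ⟨P.s, mem_sup_right P.s_mem⟩, t := ⟨P.t, mem_sup_right P.t_mem⟩
      hs := Subtype.ext P.hs, ht := Subtype.ext P.ht, hts := Subtype.ext P.hts }
  haveI hKn : (K.subgroupOf L).Normal := normal_subgroupOf_of_le_normalizer (sup_le_normalizer hs)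
  have hgrp : P'.grp.map L.subtype = P.grp := by
    rw [Pair.grp, Subgroup.map_sup, MonoidHom.map_zpowers, MonoidHom.map_zpowers]; rfl
  have hmapK : (K.subgroupOf L).map L.subtype = K := map_subgroupOf_eq_of_le le_sup_left
  have htop : K.subgroupOf L ⊔ P'.grp = ⊤ := by
    apply Subgroup.map_injective L.subtype_injective
    rw [Subgroup.map_sup, hmapK, hgrp, ← MonoidHom.range_eq_map, range_subtype]
  have e := subgroupOfEquivOfLe (le_sup_left : K ≤ L)
  have hfree : P'.Free (K.subgroupOf L) := by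
    refine (eq_bot_iff_forall _).2 ?_
    rintro x ⟨hx, hxc⟩
    refine Subtype.ext (hf.eq_one hx ?_ ?_)
    · exact congrArg Subtype.val (mem_centralizer_iff.1 hxc _ P'.s_mem)
    · exact congrArg Subtype.val (mem_centralizer_iff.1 hxc _ P'.t_mem)
  have hcard : Nat.card (K.subgroupOf L) = n := by rw [Nat.card_congr e.toEquiv, hn]
  haveI : Group.IsSolvable K := hsol
  have hsol' : Group.IsSolvable (K.subgroupOf L) :=
    Group.isSolvable_of_isSolvable_injective (f := e.toMonoidHom) e.injective
  have h := step P' (K.subgroupOf L) hKn htop hfree (by rw [hcard, ← hn]; exact hc) hsol'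
    fun Y _ _ D M hM h1 h2 h3 h4 => ih _ (hcard ▸ hM) Y D M rfl h1 h2 h3 h4
  have e2 : (⁅K.subgroupOf L, K.subgroupOf L⁆).map L.subtype = ⁅K, K⁆ := by rw [map_commutator, hmapK]
  exact nilpotent_of_equiv ((Subgroup.equivMapOfInjective _ L.subtype L.subtype_injective).trans
    (MulEquiv.subgroupCongr e2)) h

/-- the form with a group of automorphisms -/
theorem nilpotent_commutator {G : Type u} [Group G] [Finite G] [Group.IsSolvable G]
    [MulDistribMulAction (Equiv.Perm (Fin 3)) G] (hcop : (Nat.card G).Coprime 6)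
    (hfpf : ∀ g : G, (∀ a : Equiv.Perm (Fin 3), a • g = g) → g = 1) :
    Group.IsNilpotent ↥(commutator G) := by
  classical
  let φ : Equiv.Perm (Fin 3) →* MulAut G := MulDistribMulAction.toMulAut _ G
  let ι : G →* G ⋊[φ] Equiv.Perm (Fin 3) := SemidirectProduct.inl
  let j : Equiv.Perm (Fin 3) →* G ⋊[φ] Equiv.Perm (Fin 3) := SemidirectProduct.inr
  haveI : Finite (G ⋊[φ] Equiv.Perm (Fin 3)) :=
    Finite.of_equiv (G × Equiv.Perm (Fin 3)) SemidirectProduct.equivProd.symm
  let s0 : Equiv.Perm (Fin 3) := finRotate 3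
  let t0 : Equiv.Perm (Fin 3) := Equiv.swap 0 1
  let P : Pair (G ⋊[φ] Equiv.Perm (Fin 3)) :=
    { s := j s0, t := j t0
      hs := by rw [← map_pow, show s0 ^ 3 = 1 from by decide, map_one]
      ht := by rw [← map_mul, show t0 * t0 = 1 from by decide, map_one]
      hts := by rw [← map_mul, ← map_mul, show t0 * s0 * t0 = s0⁻¹ from by decide, map_inv] }
  set K := ι.range
  haveI : K.Normal := by
    show (SemidirectProduct.inl : G →* G ⋊[φ] Equiv.Perm (Fin 3)).range.Normal
    rw [SemidirectProduct.range_inl_eq_ker_rightHom]; infer_instance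
  have hinj : Function.Injective ι := SemidirectProduct.inl_injective
  let e : G ≃* K := MonoidHom.ofInjective hinj
  have hgen : ∀ a : Equiv.Perm (Fin 3), a ∈ closure ({s0, t0} : Set (Equiv.Perm (Fin 3))) := by
    have hall : ∀ a : Equiv.Perm (Fin 3), a = 1 ∨ a = s0 ∨ a = s0 * s0 ∨ a = t0 ∨ a = t0 * s0 ∨ a = t0 * (s0 * s0) := by
      decide
    intro a
    have hs : s0 ∈ closure ({s0, t0} : Set (Equiv.Perm (Fin 3))) := subset_closure (Set.mem_insert _ _)
    have ht : t0 ∈ closure ({s0, t0} : Set (Equiv.Perm (Fin 3))) :=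
      subset_closure (Set.mem_insert_of_mem _ (Set.mem_singleton _))
    rcases hall a with h | h | h | h | h | h <;> rw [h]
    exacts [one_mem _, hs, mul_mem hs hs, ht, mul_mem ht hs, mul_mem ht (mul_mem hs hs)]
  have hfree : P.Free K := by
    refine (eq_bot_iff_forall _).2 ?_
    rintro _ ⟨⟨g, rfl⟩, hc⟩
    have hle : closure ({s0, t0} : Set (Equiv.Perm (Fin 3))) ≤ (centralizer {ι g}).comap j := by
      rw [closure_le]
      rintro a (rfl | rfl) <;> refine mem_comap.2 (mem_centralizer_singleton_iff.2 ?_)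
      · exact mem_centralizer_iff.1 hc _ P.s_mem
      · exact mem_centralizer_iff.1 hc _ P.t_mem
    have : g = 1 := hfpf g fun a => hinj (by
      show ι (φ a g) = ι g
      rw [show ι (φ a g) = j a * ι g * j a⁻¹ from SemidirectProduct.inl_aut a g,
        mem_centralizer_singleton_iff.1 (hle (hgen a)), map_inv, mul_inv_cancel_right])
    rw [this, map_one]
  have hcard : Nat.card K = Nat.card G := (Nat.card_congr e.toEquiv).symm
  have hsolK : Group.IsSolvable K := Group.isSolvable_of_surjective (f := e.toMonoidHom) e.surjective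
  have h := main _ _ P K rfl le_normalizer_of_normal hfree (by rw [hcard]; exact hcop) hsolK
  have e2 : (commutator G).map ι = ⁅K, K⁆ := by
    rw [_root_.commutator_def, map_commutator, ← MonoidHom.range_eq_map]
  exact nilpotent_of_equiv ((Subgroup.equivMapOfInjective _ ι hinj).trans (MulEquiv.subgroupCongr e2)).symm h

end Cfsg.Lib.SThree
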